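import Cfsg.Agent.Lib.Glauberman.Corr
import Mathlib.GroupTheory.Solvable
import Mathlib.GroupTheory.Perm.Cycle.Type

/-!
# Coprime solvable operator groups: invariant characters and fixed classes
-/

namespace Cfsg.Agent.Glauberman

open Cfsg.Agent

open scoped ComplexConjugate

universe u v w

section Transport

/-- Irreducible characters along an isomorphism. -/
def compIrr {G : Type u} [Group G] {H : Type v} [Group H] (e : H ≃* G)
    (χ : Cfsg.IrrCharacter G) : Cfsg.IrrCharacter H :=
  ⟨fun h => (χ : G → ℂ) (e h), CT.isIrrCharacter_comp e.toMonoidHom e.surjective χ.2⟩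

theorem compIrr_apply {G : Type u} [Group G] {H : Type v} [Group H] (e : H ≃* G)
    (χ : Cfsg.IrrCharacter G) (h : H) : (compIrr e χ : H → ℂ) h = (χ : G → ℂ) (e h) := rfl

/-- The bijection of irreducible characters along an isomorphism. -/
def compIrrEquiv {G : Type u} [Group G] {H : Type v} [Group H] (e : H ≃* G) :
    Cfsg.IrrCharacter G ≃ Cfsg.IrrCharacter H where
  toFun := compIrr e
  invFun := compIrr e.symm
  left_inv χ := Subtype.ext (funext fun g => by simp [compIrr_apply])
  right_inv χ := Subtype.ext (funext fun g => by simp [compIrr_apply])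

theorem classInner_comp_equiv {G : Type u} [Group G] [Fintype G] {H : Type v} [Group H] [Fintype H]
    (e : H ≃* G) (f g : G → ℂ) :
    Cfsg.classInner (fun h => f (e h)) (fun h => g (e h)) = Cfsg.classInner f g := by
  rw [Cfsg.classInner, Cfsg.classInner, Nat.card_congr e.toEquiv]
  congr 1
  exact Fintype.sum_equiv e.toEquiv _ _ fun _ => rfl

end Transport

section Exists

/-- A nontrivial finite solvable group has a nontrivial normal subgroup of prime power order. -/
theorem exists_normal_pGroup (A : Type v) [Group A] [Finite A] [Nontrivial A]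
    (hA : Group.IsSolvable A) :
    ∃ p, p.Prime ∧ p ∣ Nat.card A ∧ ∃ T : Subgroup A, T.Normal ∧ T ≠ ⊥ ∧ IsPGroup p T := by
  obtain ⟨n, hn⟩ := (Group.isSolvable_def A).mp hA
  classical
  let N := Nat.find (⟨n, hn⟩ : ∃ m, derivedSeries A m = ⊥)
  have hN : derivedSeries A N = ⊥ := Nat.find_spec (⟨n, hn⟩ : ∃ m, derivedSeries A m = ⊥)
  have hN0 : N ≠ 0 := by
    intro h
    rw [h, derivedSeries_zero] at hN
    exact top_ne_bot hN
  obtain ⟨m, hm⟩ := Nat.exists_eq_succ_of_ne_zero hN0
  set D := derivedSeries A m with hD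
  have hDne : D ≠ ⊥ := Nat.find_min (⟨n, hn⟩ : ∃ m, derivedSeries A m = ⊥) (show m < N by omega)
  haveI hDn : D.Normal := derivedSeries_normal A m
  have hcomm : ∀ x ∈ D, ∀ y ∈ D, x * y = y * x := by
    intro x hx y hy
    rw [hm, derivedSeries_succ] at hN
    have := Subgroup.commutator_mem_commutator hx hy
    rw [← hD] at hN
    rw [hN, Subgroup.mem_bot] at this
    exact commutatorElement_eq_one_iff_mul_comm.mp this
  have hcard : Nat.card D ≠ 1 := fun h => hDne (Subgroup.card_eq_one.mp h)
  obtain ⟨p, hp, hpd⟩ := Nat.exists_prime_and_dvd hcard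
  haveI := Fact.mk hp
  obtain ⟨d, hd⟩ := exists_prime_orderOf_dvd_card' p hpd
  let T : Subgroup A :=
    { carrier := {x | x ∈ D ∧ ∃ j : ℕ, x ^ p ^ j = 1}
      one_mem' := ⟨one_mem _, 0, one_pow _⟩
      mul_mem' := fun {x y} hx hy => ⟨mul_mem hx.1 hy.1, by
        obtain ⟨i, hi⟩ := hx.2
        obtain ⟨j, hj⟩ := hy.2
        refine ⟨i + j, ?_⟩
        rw [(show Commute x y from hcomm x hx.1 y hy.1).mul_pow, pow_add, pow_mul, hi, one_pow,
          one_mul, mul_comm, pow_mul, hj, one_pow]⟩
      inv_mem' := fun {x} hx => ⟨inv_mem hx.1, by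
        obtain ⟨i, hi⟩ := hx.2
        exact ⟨i, by rw [inv_pow, hi, inv_one]⟩⟩ }
  refine ⟨p, hp, hpd.trans (Subgroup.card_subgroup_dvd_card D), T, ⟨fun x hx g => ?_⟩, ?_, ?_⟩
  · refine ⟨hDn.conj_mem x hx.1 g, ?_⟩
    obtain ⟨i, hi⟩ := hx.2
    exact ⟨i, by rw [conj_pow, hi, mul_one, mul_inv_cancel]⟩
  · intro h
    have : (d : A) ∈ T := ⟨d.2, 1, by
      have h1 := pow_orderOf_eq_one d
      rw [hd] at h1
      rw [pow_one]
      exact congrArg Subtype.val h1⟩
    rw [h, Subgroup.mem_bot] at this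
    rw [OneMemClass.coe_eq_one.mp this, orderOf_one] at hd
    exact hp.ne_one hd.symm
  · rintro ⟨x, hx, i, hi⟩
    exact ⟨i, Subtype.ext hi⟩

end Exists

section Step

variable {G : Type u} [Group G] {A : Type v} [Group A] (φ : A →* MulAut G) (T : Subgroup A)
  [hT : T.Normal]

theorem apply_mem_fixedPts (a : A) {g : G} (hg : g ∈ fixedPts (φ.comp T.subtype)) :
    φ a g ∈ fixedPts (φ.comp T.subtype) := by
  intro t
  have h := hg ⟨a⁻¹ * t * a⁻¹⁻¹, hT.conj_mem _ t.2 a⁻¹⟩
  simp only [MonoidHom.comp_apply, Subgroup.coe_subtype, map_mul, map_inv, inv_inv,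
    MulAut.mul_apply] at h ⊢
  calc φ t.1 (φ a g) = φ a ((φ a)⁻¹ (φ t.1 (φ a g))) := by simp
    _ = φ a g := by rw [h]

/-- The action on the fixed points of a normal subgroup. -/
def resAut : A →* MulAut (fixedPts (φ.comp T.subtype)) where
  toFun a :=
    { toFun := fun g => ⟨φ a g.1, apply_mem_fixedPts φ T a g.2⟩
      invFun := fun g => ⟨φ a⁻¹ g.1, apply_mem_fixedPts φ T a⁻¹ g.2⟩
      left_inv := fun g => Subtype.ext (by simp)
      right_inv := fun g => Subtype.ext (by simp)
      map_mul' := fun g h => Subtype.ext (by simp) }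
  map_one' := MulEquiv.ext fun g => Subtype.ext (by simp)
  map_mul' a b := MulEquiv.ext fun g => Subtype.ext (by simp)

theorem le_ker_resAut : T ≤ (resAut φ T).ker := fun t ht => by
  rw [MonoidHom.mem_ker]
  exact MulEquiv.ext fun g => Subtype.ext (g.2 ⟨t, ht⟩)

/-- The action of the quotient on the fixed points of a normal subgroup. -/
def quotAut : A ⧸ T →* MulAut (fixedPts (φ.comp T.subtype)) :=
  QuotientGroup.lift T (resAut φ T) (le_ker_resAut φ T)

theorem quotAut_mk (a : A) (g : fixedPts (φ.comp T.subtype)) :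
    (quotAut φ T (QuotientGroup.mk a) g : G) = φ a g.1 := rfl

/-- Fixed points in two steps. -/
def fixedEquiv : fixedPts (quotAut φ T) ≃* fixedPts φ where
  toFun g := ⟨g.1.1, fun a => congrArg Subtype.val (g.2 (QuotientGroup.mk a))⟩
  invFun g := ⟨⟨g.1, fun t => g.2 t.1⟩, fun q => QuotientGroup.induction_on q fun a =>
    Subtype.ext (g.2 a)⟩
  left_inv g := rfl
  right_inv g := rfl
  map_mul' g h := rfl

end Step

section Natural

variable {G : Type u} [Group G] [Fintype G] {A : Type v} [Group A] {φ : A →* MulAut G}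
  {T : Subgroup A} [hT : T.Normal] {p : ℕ} [Fintype (fixedPts (φ.comp T.subtype))]
  {Φ : {χ : Cfsg.IrrCharacter G // Inv (φ.comp T.subtype) (χ : G → ℂ)} ≃
    Cfsg.IrrCharacter (fixedPts (φ.comp T.subtype))}
  (hΦ : ∀ χ, ∀ δ : Cfsg.IrrCharacter (fixedPts (φ.comp T.subtype)), ∀ m : ℕ,
    Cfsg.classInner (fun c => (χ.1 : G → ℂ) ((fixedPts (φ.comp T.subtype)).subtype c))
      (δ : fixedPts (φ.comp T.subtype) → ℂ) = (m : ℂ) → (¬ p ∣ m ↔ δ = Φ χ))

theorem inv_compIrr (χ : Cfsg.IrrCharacter G) (a : A) (h : Inv (φ.comp T.subtype) (χ : G → ℂ)) :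
    Inv (φ.comp T.subtype) (compIrr (φ a) χ : G → ℂ) := by
  intro t g
  show (χ : G → ℂ) (φ a (φ t.1 g)) = (χ : G → ℂ) (φ a g)
  have := h ⟨a * t * a⁻¹, hT.conj_mem _ t.2 a⟩ (φ a g)
  simpa using this

include hΦ in
/-- Invariance passes through the correspondence. -/
theorem inv_iff_of_corr (χ : {χ : Cfsg.IrrCharacter G // Inv (φ.comp T.subtype) (χ : G → ℂ)}) :
    Inv φ (χ.1 : G → ℂ) ↔ Inv (quotAut φ T) (Φ χ : fixedPts (φ.comp T.subtype) → ℂ) := by
  have hnat : ∀ a : A, Φ ⟨compIrr (φ a) χ.1, inv_compIrr χ.1 a χ.2⟩ =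
      compIrr (resAut φ T a) (Φ χ) := by
    intro a
    obtain ⟨m, hm⟩ := CT.classInner_character_nat
      (CT.isCharacter_comp (fixedPts (φ.comp T.subtype)).subtype (CT.isCharacter_of_isIrr χ.1.2))
      (CT.isCharacter_of_isIrr (Φ χ).2)
    refine ((hΦ _ _ m ?_).mp ((hΦ χ (Φ χ) m hm).mpr rfl)).symm
    rw [← hm]
    exact classInner_comp_equiv (resAut φ T a)
      (fun x => (χ.1 : G → ℂ) ((fixedPts (φ.comp T.subtype)).subtype x))
      (Φ χ : fixedPts (φ.comp T.subtype) → ℂ)
  constructor
  · intro h q g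
    induction q using QuotientGroup.induction_on with
    | _ a =>
      have e : (⟨compIrr (φ a) χ.1, inv_compIrr χ.1 a χ.2⟩ :
          {χ : Cfsg.IrrCharacter G // Inv (φ.comp T.subtype) (χ : G → ℂ)}) = χ :=
        Subtype.ext (Subtype.ext (funext fun x => h a x))
      have := hnat a
      rw [e] at this
      exact (congrFun (congrArg Subtype.val this) g).symm
  · intro h a g
    have e : compIrr (resAut φ T a) (Φ χ) = Φ χ :=
      Subtype.ext (funext fun x => h (QuotientGroup.mk a) x)
    have := Φ.injective ((hnat a).trans e)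
    exact congrFun (congrArg Subtype.val (congrArg Subtype.val this)) g

end Natural

section Main

theorem main_aux : ∀ (n : ℕ) (A : Type v) [Group A] [Finite A] (G : Type u) [Group G] [Fintype G]
    (φ : A →* MulAut G), Nat.card A = n → Group.IsSolvable A →
    (Nat.card A).Coprime (Nat.card G) →
    (∀ g, (∀ a, IsConj (φ a g) g) → ∃ c ∈ fixedPts φ, IsConj g c) ∧
    (∀ c c' : fixedPts φ, IsConj (c : G) c' → IsConj c c') ∧
    Nat.card {χ : Cfsg.IrrCharacter G // Inv φ (χ : G → ℂ)} =
      Nat.card (Cfsg.IrrCharacter (fixedPts φ)) := by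
  classical
  intro n
  induction n using Nat.strong_induction_on with
  | _ n ih =>
    intro A _ _ G _ _ φ hn hsolv hcop
    rcases subsingleton_or_nontrivial A with hA | hA
    · have hφ : ∀ a g, φ a g = g := fun a g => by rw [Subsingleton.elim a 1, map_one]; rfl
      let e : fixedPts φ ≃* G :=
        { toFun := fun x => x.1
          invFun := fun g => ⟨g, fun a => hφ a g⟩
          left_inv := fun x => rfl
          right_inv := fun g => rfl
          map_mul' := fun x y => rfl }
      refine ⟨fun g _ => ⟨g, fun a => hφ a g, IsConj.refl g⟩, fun c c' h => ?_, ?_⟩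
      · exact MonoidHom.map_isConj e.symm.toMonoidHom h
      · exact Nat.card_congr ((Equiv.subtypeUnivEquiv fun χ a g => by rw [hφ]).trans
          (compIrrEquiv e))
    · obtain ⟨p, hp, hpA, T, hT, hTne, hTp⟩ := exists_normal_pGroup A hsolv
      haveI := hT
      haveI := Fact.mk hp
      have hpG : ¬ p ∣ Nat.card G := fun h => hp.not_dvd_one (hcop ▸ Nat.dvd_gcd hpA h)
      set φT : T →* MulAut G := φ.comp T.subtype with hφT
      have hfix := range_fixedPts φT
      have hι : Function.Injective (fixedPts φT).subtype := (fixedPts φT).subtype_injective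
      have hlt : Nat.card (A ⧸ T) < n := by
        rw [← hn, ← T.index_mul_card, Subgroup.index_eq_card]
        have h1 : 1 < Nat.card T := Subgroup.one_lt_card_iff_ne_bot T |>.mpr hTne
        have h2 : 0 < Nat.card (A ⧸ T) := Nat.card_pos
        nlinarith
      have hcop' : (Nat.card (A ⧸ T)).Coprime (Nat.card (fixedPts φT)) :=
        (hcop.coprime_dvd_left (Subgroup.card_quotient_dvd_card T)).coprime_dvd_right
          (Subgroup.card_subgroup_dvd_card _)
      haveI : Group.IsSolvable (A ⧸ T) :=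
        Group.isSolvable_of_surjective (f := QuotientGroup.mk' T) QuotientGroup.mk_surjective
      obtain ⟨ih1, ih2, ih3⟩ := ih _ hlt (A ⧸ T) (fixedPts φT) (quotAut φ T) rfl inferInstance hcop'
      refine ⟨fun g hg => ?_, fun c c' h => ?_, ?_⟩
      · -- a fixed element in a fixed class
        letI : MulAction T {x : G // IsConj x g} :=
          { smul := fun t x => ⟨φ t.1 x.1,
              (MonoidHom.map_isConj (φ t.1).toMonoidHom x.2).trans (hg t.1)⟩
            one_smul := fun x => Subtype.ext (by show φ 1 x.1 = x.1; simp)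
            mul_smul := fun a b x => Subtype.ext (by
              show φ (a.1 * b.1) x.1 = φ a.1 (φ b.1 x.1); simp) }
        have hcard : Nat.card {x : G // IsConj x g} ∣ Nat.card G := by
          rw [← CT.card_conj_class_mul_centralizer g,
            Nat.card_congr (Equiv.subtypeEquivRight fun x => ⟨IsConj.symm, IsConj.symm⟩ :
              {x : G // IsConj x g} ≃ {x : G // IsConj g x})]
          exact dvd_mul_right _ _
        obtain ⟨x, hx⟩ := hTp.nonempty_fixed_point_of_prime_not_dvd_card {x : G // IsConj x g}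
          (fun h => hpG (h.trans hcard))
        have hxm : x.1 ∈ fixedPts φT := fun t => congrArg Subtype.val (hx t)
        have hxc : ∀ q, IsConj (quotAut φ T q ⟨x.1, hxm⟩) ⟨x.1, hxm⟩ := fun q =>
          QuotientGroup.induction_on q fun a => fusion hTp hpG hι hfix
            (c := resAut φ T a ⟨x.1, hxm⟩) (c' := ⟨x.1, hxm⟩)
            (((MonoidHom.map_isConj (φ a).toMonoidHom x.2).trans (hg a)).trans x.2.symm)
        obtain ⟨c, hc, hc'⟩ := ih1 _ hxc
        exact ⟨c.1, (fixedEquiv φ T ⟨c, hc⟩).2,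
          x.2.symm.trans (MonoidHom.map_isConj (fixedPts φT).subtype hc')⟩
      · -- fusion
        have h1 := fusion hTp hpG hι hfix (c := ((fixedEquiv φ T).symm c).1)
          (c' := ((fixedEquiv φ T).symm c').1) h
        have h2 := MonoidHom.map_isConj (fixedEquiv φ T).toMonoidHom (ih2 _ _ h1)
        simpa using h2
      · -- counting
        obtain ⟨Φ, hΦ⟩ := corr (ι := (fixedPts φT).subtype) hTp hpG hι hfix
        have hiff := fun χ => inv_iff_of_corr (φ := φ) (T := T) (p := p) (Φ := Φ)
          (fun χ δ m h => (hΦ χ δ m h).1) χ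
        calc Nat.card {χ : Cfsg.IrrCharacter G // Inv φ (χ : G → ℂ)}
            = Nat.card {χ : {χ : Cfsg.IrrCharacter G // Inv φT (χ : G → ℂ)} //
                Inv φ (χ.1 : G → ℂ)} := Nat.card_congr (Equiv.subtypeSubtypeEquivSubtype
                  (p := fun χ : Cfsg.IrrCharacter G => Inv φT (χ : G → ℂ))
                  (q := fun χ : Cfsg.IrrCharacter G => Inv φ (χ : G → ℂ))
                  (fun {χ} (h : Inv φ (χ : G → ℂ)) (t : T) g => h t.1 g)).symm
          _ = Nat.card {δ : Cfsg.IrrCharacter (fixedPts φT) //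
                Inv (quotAut φ T) (δ : fixedPts φT → ℂ)} :=
              Nat.card_congr (Equiv.subtypeEquiv Φ hiff)
          _ = _ := ih3
          _ = _ := Nat.card_congr (compIrrEquiv (fixedEquiv φ T).symm)

variable {A : Type v} [Group A] [Finite A] {G : Type u} [Group G] [Fintype G] (φ : A →* MulAut G)
  (hsolv : Group.IsSolvable A) (hcop : (Nat.card A).Coprime (Nat.card G))

include hsolv hcop in
theorem exists_fixed_of_class (g : G) (hg : ∀ a, IsConj (φ a g) g) :
    ∃ c ∈ fixedPts φ, IsConj g c :=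
  (main_aux _ A G φ rfl hsolv hcop).1 g hg

include hsolv hcop in
theorem fusion_solvable {c c' : fixedPts φ} (h : IsConj (c : G) c') : IsConj c c' :=
  (main_aux _ A G φ rfl hsolv hcop).2.1 c c' h

include hsolv hcop in
theorem card_inv_eq : Nat.card {χ : Cfsg.IrrCharacter G // Inv φ (χ : G → ℂ)} =
    Nat.card (Cfsg.IrrCharacter (fixedPts φ)) :=
  (main_aux _ A G φ rfl hsolv hcop).2.2

include hsolv hcop in
theorem card_fixed_classes :
    Nat.card {K : ConjClasses G // ∀ a g, ConjClasses.mk g = K → ConjClasses.mk (φ a g) = K} =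
      Nat.card (ConjClasses (fixedPts φ)) := by
  let F : ConjClasses (fixedPts φ) →
      {K : ConjClasses G // ∀ a g, ConjClasses.mk g = K → ConjClasses.mk (φ a g) = K} :=
    fun K => ⟨ConjClasses.map (fixedPts φ).subtype K, fun a g hg => by
      obtain ⟨c, rfl⟩ := ConjClasses.exists_rep K
      have h1 : IsConj g c.1 := ConjClasses.mk_eq_mk_iff_isConj.mp hg
      have h2 := MonoidHom.map_isConj (φ a).toMonoidHom h1
      refine ConjClasses.mk_eq_mk_iff_isConj.mpr (IsConj.trans h2 ?_)
      show IsConj (φ a c.1) c.1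
      rw [c.2 a]⟩
  refine (Nat.card_eq_of_bijective F ⟨?_, ?_⟩).symm
  · intro K L h
    obtain ⟨c, rfl⟩ := ConjClasses.exists_rep K
    obtain ⟨d, rfl⟩ := ConjClasses.exists_rep L
    exact ConjClasses.mk_eq_mk_iff_isConj.mpr (fusion_solvable φ hsolv hcop
      (ConjClasses.mk_eq_mk_iff_isConj.mp (congrArg Subtype.val h)))
  · rintro ⟨K, hK⟩
    obtain ⟨g, rfl⟩ := ConjClasses.exists_rep K
    obtain ⟨c, hc, hgc⟩ := exists_fixed_of_class φ hsolv hcop g fun a =>
      ConjClasses.mk_eq_mk_iff_isConj.mp (hK a g rfl)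
    exact ⟨ConjClasses.mk ⟨c, hc⟩, Subtype.ext (ConjClasses.mk_eq_mk_iff_isConj.mpr hgc.symm)⟩

end Main

end Cfsg.Agent.Glauberman
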