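import Cfsg.Agent.Lib.Glauberman.Solvable

/-!
# Operator subgroups acting by conjugation
-/

namespace Cfsg.Agent.Glauberman

open Cfsg.Agent

universe u

variable {Γ : Type u} [Group Γ] (G S : Subgroup Γ) (hnorm : ∀ s ∈ S, ∀ g ∈ G, s * g * s⁻¹ ∈ G)

/-- Conjugation as an action by automorphisms. -/
def conjAct : S →* MulAut G where
  toFun s :=
    { toFun := fun g => ⟨s.1 * g.1 * s.1⁻¹, hnorm _ s.2 _ g.2⟩
      invFun := fun g => ⟨s.1⁻¹ * g.1 * s.1⁻¹⁻¹, hnorm _ (inv_mem s.2) _ g.2⟩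
      left_inv := fun g => Subtype.ext (by group)
      right_inv := fun g => Subtype.ext (by group)
      map_mul' := fun a b => Subtype.ext (by simp [mul_assoc]) }
  map_one' := MulEquiv.ext fun g => Subtype.ext (by simp)
  map_mul' a b := MulEquiv.ext fun g => Subtype.ext (by simp [mul_assoc])

theorem conjAct_apply (s : S) (g : G) : (conjAct G S hnorm s g : Γ) = s.1 * g.1 * s.1⁻¹ := rfl

theorem inv_conjAct_iff {X : Type*} (f : G → X) :
    (∀ s ∈ S, ∀ g g' : G, (g' : Γ) = s * g * s⁻¹ → f g' = f g) ↔ Inv (conjAct G S hnorm) f :=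
  ⟨fun h a g => h a.1 a.2 g _ rfl, fun h s hs g g' hg => by
    rw [show g' = conjAct G S hnorm ⟨s, hs⟩ g from Subtype.ext hg]; exact h _ _⟩

theorem mem_fixedPts_conjAct {g : G} :
    g ∈ fixedPts (conjAct G S hnorm) ↔ (g : Γ) ∈ Subgroup.centralizer (S : Set Γ) := by
  rw [Subgroup.mem_centralizer_iff]
  constructor
  · intro h s hs
    exact mul_inv_eq_iff_eq_mul.mp (congrArg Subtype.val (h ⟨s, hs⟩))
  · intro h a
    exact Subtype.ext (mul_inv_eq_iff_eq_mul.mpr (h a.1 a.2))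

theorem range_inclusion_conjAct (C : Subgroup Γ) (hC : C = G ⊓ Subgroup.centralizer (S : Set Γ))
    (hCG : C ≤ G) (g : G) :
    g ∈ (Subgroup.inclusion hCG).range ↔ ∀ a, conjAct G S hnorm a g = g := by
  rw [← mem_fixedPts, mem_fixedPts_conjAct]
  constructor
  · rintro ⟨c, rfl⟩
    exact (hC.le c.2).2
  · intro h
    exact ⟨⟨g, hC.ge ⟨g.2, h⟩⟩, rfl⟩

/-- The fixed points of conjugation as the centralizer inside the group. -/
def fixedPtsConjEquiv (C : Subgroup Γ) (hC : C = G ⊓ Subgroup.centralizer (S : Set Γ)) :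
    fixedPts (conjAct G S hnorm) ≃* C where
  toFun g := ⟨g.1.1, hC.ge ⟨g.1.2, (mem_fixedPts_conjAct G S hnorm).mp g.2⟩⟩
  invFun c := ⟨⟨c.1, (hC.le c.2).1⟩, (mem_fixedPts_conjAct G S hnorm).mpr (hC.le c.2).2⟩
  left_inv g := rfl
  right_inv c := rfl
  map_mul' g h := rfl

end Cfsg.Agent.Glauberman
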