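import Cfsg.Agent.Lib.Glauberman.Solvable
import Cfsg.Agent.Lib.CT.Clifford
import Mathlib.Algebra.Field.ZMod

/-!
# Invariant characters over invariant characters of normal subgroups
-/

namespace Cfsg.Agent.Glauberman

open Cfsg.Agent

open scoped ComplexConjugate

universe u v

theorem mult_comp_eq_sum {G : Type u} [Group G] [Fintype G] {H : Type u} [Group H] [Fintype H]
    (f : H →* G) {θ : G → ℂ} (hθ : Cfsg.IsCharacter G θ) (η : Cfsg.IrrCharacter H) :
    CT.mult (fun x => θ (f x)) (η : H → ℂ) = ∑ δ : Cfsg.IrrCharacter G,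
      CT.mult θ (δ : G → ℂ) * CT.mult (fun x => (δ : G → ℂ) (f x)) (η : H → ℂ) := by
  have hη := CT.isCharacter_of_isIrr η.2
  apply Nat.cast_injective (R := ℂ)
  push_cast
  rw [← CT.mult_spec (CT.isCharacter_comp f hθ) hη]
  have e : (fun x => θ (f x)) = ∑ δ : Cfsg.IrrCharacter G,
      (CT.mult θ (δ : G → ℂ) : ℂ) • fun x => (δ : G → ℂ) (f x) := by
    funext x
    rw [Finset.sum_apply]
    have := congrFun (CT.character_eq_sum hθ) (f x)
    rw [Finset.sum_apply] at this
    simpa using this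
  rw [e, CT.classInner_sum_left]
  refine Finset.sum_congr rfl fun δ _ => ?_
  rw [CT.classInner_smul_left,
    CT.mult_spec (CT.isCharacter_comp f (CT.isCharacter_of_isIrr δ.2)) hη]

section Stable

variable {G : Type u} [Group G] {A : Type v} [Group A] (φ : A →* MulAut G) (N : Subgroup G)
  (hN : ∀ a, ∀ n ∈ N, φ a n ∈ N)

/-- The action on a stable subgroup. -/
def resN : A →* MulAut N where
  toFun a :=
    { toFun := fun n => ⟨φ a n.1, hN a _ n.2⟩
      invFun := fun n => ⟨φ a⁻¹ n.1, hN a⁻¹ _ n.2⟩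
      left_inv := fun g => Subtype.ext (by simp)
      right_inv := fun g => Subtype.ext (by simp)
      map_mul' := fun g h => Subtype.ext (by simp) }
  map_one' := MulEquiv.ext fun g => Subtype.ext (by simp)
  map_mul' a b := MulEquiv.ext fun g => Subtype.ext (by simp)

theorem resN_apply (a : A) (n : N) : (resN φ N hN a n : G) = φ a n.1 := rfl

end Stable

theorem relative_aux : ∀ (n : ℕ) (A : Type v) [Group A] [Finite A] (G : Type u) [Group G]
    [Fintype G] (φ : A →* MulAut G) (N : Subgroup G) [N.Normal] [Fintype N]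
    (hN : ∀ a, ∀ x ∈ N, φ a x ∈ N) (θ : Cfsg.IrrCharacter N),
    Nat.card A = n → Group.IsSolvable A → (Nat.card A).Coprime (Nat.card G) →
    Inv (resN φ N hN) (θ : N → ℂ) →
    ∃ χ : Cfsg.IrrCharacter G, Inv φ (χ : G → ℂ) ∧
      Cfsg.classInner (fun x : N => (χ : G → ℂ) x) (θ : N → ℂ) ≠ 0 := by
  classical
  intro n
  induction n using Nat.strong_induction_on with
  | _ n ih =>
    intro A _ _ G _ _ φ N _ _ hN θ hn hsolv hcop hθ
    rcases subsingleton_or_nontrivial A with hA | hA
    · obtain ⟨χ, hχ⟩ := CT.exists_irr_over N θ.2 (G := G)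
      exact ⟨χ, fun a g => by rw [Subsingleton.elim a 1, map_one]; rfl, hχ⟩
    obtain ⟨p, hp, hpA, T, hT, hTne, hTp⟩ := exists_normal_pGroup A hsolv
    haveI := hT
    haveI := Fact.mk hp
    have hpG : ¬ p ∣ Nat.card G := fun h => hp.not_dvd_one (hcop ▸ Nat.dvd_gcd hpA h)
    have hpN : ¬ p ∣ Nat.card N := fun h => hpG (h.trans N.card_subgroup_dvd_card)
    set C1 := fixedPts (φ.comp T.subtype) with hC1
    set ψT : T →* MulAut N := (resN φ N hN).comp T.subtype with hψT
    set N1 : Subgroup C1 := N.subgroupOf C1 with hN1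
    let ι : N1 →* N :=
      { toFun := fun x => ⟨x.1.1, x.2⟩
        map_one' := rfl
        map_mul' := fun _ _ => rfl }
    have hι : Function.Injective ι := fun x y h =>
      Subtype.ext (Subtype.ext (congrArg (Subtype.val : N → G) h))
    have hfix : ∀ x : N, x ∈ ι.range ↔ ∀ t, ψT t x = x := by
      intro x
      constructor
      · rintro ⟨c, rfl⟩ t
        exact Subtype.ext (c.1.2 t)
      · intro h
        exact ⟨⟨⟨x.1, fun t => congrArg Subtype.val (h t)⟩, x.2⟩, rfl⟩
    obtain ⟨ΦN, hΦN⟩ := corr (ι := ι) (φ := ψT) hTp hpN hι hfix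
    obtain ⟨ΦG, hΦG⟩ := corr (ι := C1.subtype) (φ := φ.comp T.subtype) hTp hpG
      C1.subtype_injective (range_fixedPts _)
    have hθT : Inv ψT (θ : N → ℂ) := fun t x => hθ t.1 x
    set θs := ΦN ⟨θ, hθT⟩ with hθs
    -- the correspondent is invariant under the quotient
    have hN' : ∀ q, ∀ x ∈ N1, quotAut φ T q x ∈ N1 := fun q x hx =>
      QuotientGroup.induction_on q fun a => hN a _ hx
    have hθs' : Inv (resN (quotAut φ T) N1 hN') (θs : N1 → ℂ) := by
      intro q
      induction q using QuotientGroup.induction_on with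
      | _ a =>
        let e : N1 ≃* N1 := resN (quotAut φ T) N1 hN' (QuotientGroup.mk a)
        obtain ⟨m, hm⟩ := CT.classInner_character_nat
          (CT.isCharacter_comp ι (CT.isCharacter_of_isIrr θ.2)) (CT.isCharacter_of_isIrr θs.2)
        have hm' : Cfsg.classInner (fun c => (θ : N → ℂ) (ι c)) (compIrr e θs : N1 → ℂ) = m := by
          rw [← hm, ← classInner_comp_equiv e (fun c => (θ : N → ℂ) (ι c)) (θs : N1 → ℂ)]
          congr 1
          funext c
          exact (hθ a (ι c)).symm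
        have := (hΦN ⟨θ, hθT⟩ (compIrr e θs) m hm').1.mp ((hΦN ⟨θ, hθT⟩ θs m hm).1.mpr rfl)
        intro x
        exact congrFun (congrArg Subtype.val this) x
    have hlt : Nat.card (A ⧸ T) < n := by
      rw [← hn, ← T.index_mul_card, Subgroup.index_eq_card]
      have h1 : 1 < Nat.card T := Subgroup.one_lt_card_iff_ne_bot T |>.mpr hTne
      have h2 : 0 < Nat.card (A ⧸ T) := Nat.card_pos
      nlinarith
    have hcop' : (Nat.card (A ⧸ T)).Coprime (Nat.card C1) :=
      (hcop.coprime_dvd_left (Subgroup.card_quotient_dvd_card T)).coprime_dvd_right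
        (Subgroup.card_subgroup_dvd_card _)
    haveI : Group.IsSolvable (A ⧸ T) :=
      Group.isSolvable_of_surjective (f := QuotientGroup.mk' T) QuotientGroup.mk_surjective
    obtain ⟨δ, hδ, hδθ⟩ := ih _ hlt (A ⧸ T) C1 (quotAut φ T) N1 hN' θs rfl inferInstance hcop' hθs'
    set χ := ΦG.symm δ with hχ
    have hΦχ : ΦG χ = δ := ΦG.apply_symm_apply δ
    refine ⟨χ.1, (inv_iff_of_corr (fun χ δ m h => (hΦG χ δ m h).1) χ).mpr (hΦχ.symm ▸ hδ), ?_⟩
    intro hzero
    have hirr := fun {H : Type u} [Group H] (η : Cfsg.IrrCharacter H) => CT.isCharacter_of_isIrr η.2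
    have hχc := CT.isCharacter_of_isIrr χ.1.2
    have hresN : Cfsg.IsCharacter N (fun x : N => (χ.1 : G → ℂ) x) := CT.isCharacter_restrict N hχc
    have hresC : Cfsg.IsCharacter C1 (fun x => (χ.1 : G → ℂ) (C1.subtype x)) :=
      CT.isCharacter_comp C1.subtype hχc
    -- computed through the fixed points
    have hA1 := mult_comp_eq_sum N1.subtype hresC θs
    have hB1 := mult_comp_eq_sum ι hresN θs
    have e1 : (fun x => (fun y : C1 => (χ.1 : G → ℂ) (C1.subtype y)) (N1.subtype x)) =
        fun x => (fun y : N => (χ.1 : G → ℂ) y) (ι x) := rfl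
    rw [e1, hB1] at hA1
    have hmodC : ∀ η : Cfsg.IrrCharacter C1, η ≠ δ →
        (CT.mult (fun x => (χ.1 : G → ℂ) (C1.subtype x)) (η : C1 → ℂ) : ZMod p) = 0 := by
      intro η hη
      rw [ZMod.natCast_eq_zero_iff]
      by_contra hnd
      exact hη (((hΦG χ η _ (CT.mult_spec hresC (CT.isCharacter_of_isIrr η.2))).1.mp hnd).trans hΦχ)
    have hdC : (CT.mult (fun x => (χ.1 : G → ℂ) (C1.subtype x)) (δ : C1 → ℂ) : ZMod p) ≠ 0 := by
      rw [Ne, ZMod.natCast_eq_zero_iff]
      exact (hΦG χ δ _ (CT.mult_spec hresC (CT.isCharacter_of_isIrr δ.2))).1.mpr hΦχ.symm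
    have hmodN : ∑ η : Cfsg.IrrCharacter N,
        ((CT.mult (fun x : N => (χ.1 : G → ℂ) x) (η : N → ℂ) *
          CT.mult (fun x => (η : N → ℂ) (ι x)) (θs : N1 → ℂ) : ℕ) : ZMod p) = 0 := by
      rw [sum_eq_sum_fixed (p := p) hTp (irrPerm ψT) _ ?_]
      · refine Finset.sum_eq_zero fun η hη => ?_
        by_cases e : η = θ
        · subst e
          have : CT.mult (fun x : N => (χ.1 : G → ℂ) x) (η : N → ℂ) = 0 := by
            apply Nat.cast_injective (R := ℂ)
            rw [← CT.mult_spec hresN (CT.isCharacter_of_isIrr η.2)]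
            simpa using hzero
          simp [this]
        · have hηT : Inv ψT (η : N → ℂ) := (inv_iff_fixed ψT η).mpr (Finset.mem_filter.mp hη).2
          rw [Nat.cast_mul, (ZMod.natCast_eq_zero_iff (CT.mult (fun x => (η : N → ℂ) (ι x))
            (θs : N1 → ℂ)) p).mpr, mul_zero]
          by_contra hnd
          have := (hΦN ⟨η, hηT⟩ θs _ (CT.mult_spec
            (CT.isCharacter_comp ι (CT.isCharacter_of_isIrr η.2))
            (CT.isCharacter_of_isIrr θs.2))).1.mp hnd
          exact e (congrArg Subtype.val (ΦN.injective this)).symm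
      · intro t η
        congr 1
        congr 1
        · apply Nat.cast_injective (R := ℂ)
          rw [← CT.mult_spec hresN (CT.isCharacter_of_isIrr (irrPerm ψT t η).2),
            ← CT.mult_spec hresN (CT.isCharacter_of_isIrr η.2),
            ← classInner_comp_equiv (ψT t⁻¹) (fun x : N => (χ.1 : G → ℂ) x) (η : N → ℂ)]
          congr 1
          funext x
          exact (χ.2 t⁻¹ x.1).symm
        · congr 1
          funext x
          show (η : N → ℂ) (ψT t⁻¹ (ι x)) = (η : N → ℂ) (ι x)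
          rw [iota_fixed (φ := ψT) hfix]
    have hA1' := congrArg (fun z : ℕ => (z : ZMod p)) hA1
    simp only [Nat.cast_sum] at hA1'
    rw [hmodN] at hA1'
    rw [Finset.sum_eq_single δ (fun η _ hη => by rw [Nat.cast_mul, hmodC η hη, zero_mul])
      (fun h => absurd (Finset.mem_univ δ) h), Nat.cast_mul] at hA1'
    have hdvd : p ∣ CT.mult (fun x => (δ : C1 → ℂ) (N1.subtype x)) (θs : N1 → ℂ) :=
      (ZMod.natCast_eq_zero_iff _ _).mp
        ((mul_eq_zero.mp hA1'.symm).resolve_left hdC)
    have hdeg : CT.mult (fun x : N1 => (δ : C1 → ℂ) x) (θs : N1 → ℂ) ∣ CT.deg (δ : C1 → ℂ) :=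
      ⟨_, (CT.clifford_mult N1 δ.2 θs.2 hδθ).trans (mul_assoc _ _ _)⟩
    exact hpG ((hdvd.trans hdeg).trans ((deg_dvd_card δ).trans (Subgroup.card_subgroup_dvd_card _)))

variable {A : Type v} [Group A] [Finite A] {G : Type u} [Group G] [Fintype G] (φ : A →* MulAut G)

/-- An invariant character of a stable normal subgroup lies under an invariant character. -/
theorem exists_inv_over (hsolv : Group.IsSolvable A) (hcop : (Nat.card A).Coprime (Nat.card G))
    (N : Subgroup G) [N.Normal] [Fintype N] (hN : ∀ a, ∀ x ∈ N, φ a x ∈ N)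
    (θ : Cfsg.IrrCharacter N) (hθ : Inv (resN φ N hN) (θ : N → ℂ)) :
    ∃ χ : Cfsg.IrrCharacter G, Inv φ (χ : G → ℂ) ∧
      Cfsg.classInner (fun x : N => (χ : G → ℂ) x) (θ : N → ℂ) ≠ 0 :=
  relative_aux _ A G φ N hN θ rfl hsolv hcop hθ

end Cfsg.Agent.Glauberman
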