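import Cfsg.Agent.Lib.Glauberman.CoprimePoint
import Cfsg.Agent.Lib.Glauberman.Relative
import Cfsg.Agent.Lib.CT.Kernel

/-!
# Invariant constituents for coprime index
-/

namespace Cfsg.Agent.Glauberman

open Cfsg.Agent

open scoped ComplexConjugate commutatorElement

universe u v

section Twist

variable {G : Type u} [Group G] [Fintype G]

theorem lin_mul_conj (lam : G →* ℂˣ) (g : G) : (lam g : ℂ) * conj (lam g : ℂ) = 1 := by
  rw [← CT.char_inv_eq_conj (CT.isCharacter_lin lam) g, map_inv, Units.mul_inv]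

theorem isIrr_twist {χ : G → ℂ} (hχ : Cfsg.IsIrrCharacter G χ) (lam : G →* ℂˣ) :
    Cfsg.IsIrrCharacter G (fun g => (lam g : ℂ) * χ g) := by
  refine CT.isIrrCharacter_iff.mpr
    ⟨CT.isCharacter_mul (CT.isCharacter_lin lam) (CT.isCharacter_of_isIrr hχ), ?_⟩
  rw [← CT.irr_inner_self hχ]
  simp only [Cfsg.classInner]
  congr 1
  refine Finset.sum_congr rfl fun g _ => ?_
  rw [map_mul]
  calc _ = ((lam g : ℂ) * conj (lam g : ℂ)) * (χ g * conj (χ g)) := by ring
    _ = _ := by rw [lin_mul_conj, one_mul]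

/-- Characters with a common constituent are not orthogonal. -/
theorem inner_ne_zero_of_common {a b : G → ℂ} (ha : Cfsg.IsCharacter G a)
    (hb : Cfsg.IsCharacter G b) (η : Cfsg.IrrCharacter G)
    (h1 : Cfsg.classInner a η ≠ 0) (h2 : Cfsg.classInner b η ≠ 0) : Cfsg.classInner a b ≠ 0 := by
  intro h0
  have hη := fun η : Cfsg.IrrCharacter G => CT.isCharacter_of_isIrr η.2
  rw [CT.classInner_eq_sum (CT.isClassFunction_of_isCharacter hb)] at h0
  simp only [CT.mult_spec ha (hη _), CT.mult_spec hb (hη _), map_natCast] at h0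
  have h0' : ∑ ξ : Cfsg.IrrCharacter G, CT.mult a ξ * CT.mult b ξ = 0 := by exact_mod_cast h0
  have := Finset.sum_eq_zero_iff.mp h0' η (Finset.mem_univ _)
  rw [CT.mult_spec ha (hη _)] at h1
  rw [CT.mult_spec hb (hη _)] at h2
  rcases mul_eq_zero.mp this with h | h
  · exact h1 (by rw [h, Nat.cast_zero])
  · exact h2 (by rw [h, Nat.cast_zero])

end Twist

section Above

/-- The abelian step: invariant constituents above. -/
theorem exists_inv_above_abelian {G : Type u} [Group G] [Fintype G] {A : Type v} [Group A]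
    (φ : A →* MulAut G) (A0 : Subgroup A) [A0.Normal] [Finite (A ⧸ A0)] (M : Subgroup G)
    [M.Normal] [Fintype M] (hM : ∀ a, ∀ x ∈ M, φ a x ∈ M)
    (hA0 : ∀ a ∈ A0, ∃ x ∈ M, ∀ g, φ a g = x * g * x⁻¹)
    (hab : ∀ a b : G ⧸ M, a * b = b * a) (hcop : M.index.Coprime (Nat.card (A ⧸ A0)))
    (ψ : Cfsg.IrrCharacter M) (hψ : Inv (resN φ M hM) (ψ : M → ℂ)) :
    ∃ χ : Cfsg.IrrCharacter G, Inv φ (χ : G → ℂ) ∧
      Cfsg.classInner (fun x : M => (χ : G → ℂ) x) (ψ : M → ℂ) ≠ 0 := by
  classical
  let X := {χ : Cfsg.IrrCharacter G //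
    Cfsg.classInner (fun x : M => (χ : G → ℂ) x) (ψ : M → ℂ) ≠ 0}
  haveI : Nonempty X := nonempty_subtype.mpr (CT.exists_irr_over M ψ.2)
  let K : Subgroup (G →* ℂˣ) :=
    { carrier := {lam | ∀ m : M, lam m = 1}
      one_mem' := fun m => rfl
      mul_mem' := fun ha hb m => by rw [MonoidHom.mul_apply, ha m, hb m, one_mul]
      inv_mem' := fun ha m => by rw [MonoidHom.inv_apply, ha m, inv_one] }
  haveI : Finite (G →* ℂˣ) :=
    haveI := CT.irr_finite G
    Finite.of_injective (fun lam => CT.linIrr lam) fun a b h => MonoidHom.ext fun g =>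
      Units.ext (congrFun (congrArg Subtype.val h) g)
  -- the group of linear characters of the quotient has order involving only primes of the index
  have hKcop : (Nat.card (A ⧸ A0)).Coprime (Nat.card K) := by
    refine Nat.coprime_of_dvd fun q hq hqA hqK => ?_
    haveI := Fact.mk hq
    obtain ⟨lam, hlam⟩ := exists_prime_orderOf_dvd_card' q hqK
    have h1 : lam ^ M.index = 1 := Subtype.ext (MonoidHom.ext fun g => by
      show ((lam : G →* ℂˣ) ^ M.index) g = 1
      rw [MonoidHom.pow_apply, ← map_pow]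
      exact lam.2 ⟨_, M.pow_index_mem g⟩)
    have h2 := orderOf_dvd_of_pow_eq_one h1
    rw [hlam] at h2
    exact hq.not_dvd_one (hcop ▸ Nat.dvd_gcd h2 hqA)
  -- the action of linear characters
  let κ : K →* Equiv.Perm X :=
    { toFun := fun l =>
        { toFun := fun χ => ⟨⟨_, isIrr_twist χ.1.2 l.1⟩, by
            have : (fun x : M => ((l.1 : G →* ℂˣ) x : ℂ) * (χ.1 : G → ℂ) x) =
                fun x : M => (χ.1 : G → ℂ) x := funext fun x => by
              rw [l.2 x, Units.val_one, one_mul]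
            show Cfsg.classInner (fun x : M => ((l.1 : G →* ℂˣ) x : ℂ) * (χ.1 : G → ℂ) x) _ ≠ 0
            rw [this]
            exact χ.2⟩
          invFun := fun χ => ⟨⟨_, isIrr_twist χ.1.2 (l⁻¹).1⟩, by
            have : (fun x : M => (((l⁻¹).1 : G →* ℂˣ) x : ℂ) * (χ.1 : G → ℂ) x) =
                fun x : M => (χ.1 : G → ℂ) x := funext fun x => by
              rw [(l⁻¹).2 x, Units.val_one, one_mul]
            show Cfsg.classInner (fun x : M => (((l⁻¹).1 : G →* ℂˣ) x : ℂ) * (χ.1 : G → ℂ) x) _ ≠ 0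
            rw [this]
            exact χ.2⟩
          left_inv := fun χ => Subtype.ext (Subtype.ext (funext fun g => by simp))
          right_inv := fun χ => Subtype.ext (Subtype.ext (funext fun g => by simp)) }
      map_one' := Equiv.ext fun χ => Subtype.ext (Subtype.ext (funext fun g => by simp))
      map_mul' := fun a b => Equiv.ext fun χ => Subtype.ext (Subtype.ext (funext fun g => by
        simp [mul_assoc])) }
  -- the action of the operators
  have hXa : ∀ (a : A) (χ : X),
      Cfsg.classInner (fun x : M => (compIrr (φ a) χ.1 : G → ℂ) x) (ψ : M → ℂ) ≠ 0 := by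
    intro a χ
    have h := classInner_comp_equiv (resN φ M hM a) (fun y : M => (χ.1 : G → ℂ) y) (ψ : M → ℂ)
    have e : (fun x => (ψ : M → ℂ) (resN φ M hM a x)) = (ψ : M → ℂ) := funext fun x => hψ a x
    rw [e] at h
    exact fun h0 => χ.2 (h.symm.trans h0)
  let α0 : A →* Equiv.Perm X :=
    { toFun := fun a =>
        { toFun := fun χ => ⟨compIrr (φ a⁻¹) χ.1, hXa _ χ⟩
          invFun := fun χ => ⟨compIrr (φ a) χ.1, hXa _ χ⟩
          left_inv := fun χ => Subtype.ext (Subtype.ext (funext fun g => by simp [compIrr_apply]))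
          right_inv := fun χ => Subtype.ext (Subtype.ext (funext fun g => by simp [compIrr_apply])) }
      map_one' := Equiv.ext fun χ => Subtype.ext (Subtype.ext (funext fun g => by
        simp [compIrr_apply]))
      map_mul' := fun a b => Equiv.ext fun χ => Subtype.ext (Subtype.ext (funext fun g => by
        simp [compIrr_apply])) }
  have hα0 : A0 ≤ α0.ker := fun a ha => by
    rw [MonoidHom.mem_ker]
    refine Equiv.ext fun χ => Subtype.ext (Subtype.ext (funext fun g => ?_))
    obtain ⟨x, -, hx⟩ := hA0 a⁻¹ (inv_mem ha)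
    show (χ.1 : G → ℂ) (φ a⁻¹ g) = (χ.1 : G → ℂ) g
    rw [hx]
    exact (CT.isClassFunction_isConj (CT.isClassFunction_of_isIrr χ.1.2)
      (isConj_iff.mpr ⟨x, rfl⟩)).symm
  let β0 : A →* MulAut K :=
    { toFun := fun a =>
        { toFun := fun l => ⟨l.1.comp (φ a⁻¹).toMonoidHom, fun m => l.2 ⟨_, hM a⁻¹ _ m.2⟩⟩
          invFun := fun l => ⟨l.1.comp (φ a).toMonoidHom, fun m => l.2 ⟨_, hM a _ m.2⟩⟩
          left_inv := fun l => Subtype.ext (MonoidHom.ext fun g => by simp)
          right_inv := fun l => Subtype.ext (MonoidHom.ext fun g => by simp)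
          map_mul' := fun l l' => Subtype.ext (MonoidHom.ext fun g => by simp) }
      map_one' := MulEquiv.ext fun l => Subtype.ext (MonoidHom.ext fun g => by simp)
      map_mul' := fun a b => MulEquiv.ext fun l => Subtype.ext (MonoidHom.ext fun g => by simp) }
  have hβ0 : A0 ≤ β0.ker := fun a ha => by
    rw [MonoidHom.mem_ker]
    refine MulEquiv.ext fun l => Subtype.ext (MonoidHom.ext fun g => ?_)
    obtain ⟨x, -, hx⟩ := hA0 a⁻¹ (inv_mem ha)
    show l.1 (φ a⁻¹ g) = l.1 g
    rw [hx]
    simp [mul_comm]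
  have hsolvK : Group.IsSolvable K := inferInstance
  obtain ⟨χ, hχ⟩ := exists_fixed_point (QuotientGroup.lift A0 β0 hβ0) κ
    (QuotientGroup.lift A0 α0 hα0)
    (fun q l χ => QuotientGroup.induction_on q fun a =>
      Subtype.ext (Subtype.ext (funext fun g => rfl)))
    hKcop (Or.inr hsolvK) (fun χ χ' => by
      -- transitivity
      have hc := fun η : X => CT.isCharacter_of_isIrr η.1.2
      have hres : Cfsg.classInner (fun x : M => (χ'.1 : G → ℂ) x)
          (fun x : M => (χ.1 : G → ℂ) x) ≠ 0 :=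
        inner_ne_zero_of_common (CT.isCharacter_restrict M (hc χ')) (CT.isCharacter_restrict M (hc χ))
          ψ χ'.2 χ.2
      have hcf := CT.isClassFunction_of_isIrr χ.1.2
      have hind : Cfsg.classInner (χ'.1 : G → ℂ)
          (Cfsg.indFun M (fun _ => (1 : ℂ)) * (χ.1 : G → ℂ)) ≠ 0 := by
        rw [← CT.indFun_mul_restrict M _ hcf,
          CT.frobenius_reciprocity' M (CT.isClassFunction_of_isIrr χ'.1.2)]
        rw [show ((fun _ => (1 : ℂ)) * fun x : M => (χ.1 : G → ℂ) x) =
          fun x : M => (χ.1 : G → ℂ) x from funext fun x => one_mul _]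
        exact hres
      have hdec := CT.character_eq_sum (CT.isCharacter_indFun_one M (G := G))
      rw [hdec, Finset.sum_mul, CT.classInner_sum_right] at hind
      obtain ⟨η, -, hη⟩ := Finset.exists_ne_zero_of_sum_ne_zero hind
      rw [smul_mul_assoc, CT.classInner_smul_right, mul_ne_zero_iff] at hη
      obtain ⟨hη1, hη2⟩ := hη
      have hη1' : Cfsg.classInner (fun x : M => (η : G → ℂ) x) (fun _ => (1 : ℂ)) ≠ 0 := by
        rw [← CT.frobenius_reciprocity' M (CT.isClassFunction_of_isIrr η.2)]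
        rw [CT.classInner_comm_of_char (CT.isCharacter_of_isIrr η.2) (CT.isCharacter_indFun_one M),
          CT.mult_spec (CT.isCharacter_indFun_one M) (CT.isCharacter_of_isIrr η.2)]
        intro h
        exact hη1 (by rw [h]; simp)
      have hker : ∀ m ∈ M, (η : G → ℂ) m = (η : G → ℂ) 1 := by
        have h := CT.restrict_eq_smul_of_invariant M η.2 CT.isIrrCharacter_one hη1' (fun g => rfl)
        intro m hm
        have h1 := congrFun h ⟨m, hm⟩
        have h2 := congrFun h 1
        simp only [Pi.smul_apply, OneMemClass.coe_one] at h1 h2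
        rw [h1, h2]
      obtain ⟨η', hη', hmk⟩ := CT.exists_quotient_irr η.2 M hker
      obtain ⟨lam, hlam⟩ := CT.exists_hom_of_comm hab hη'
      let l : K := ⟨lam.comp (QuotientGroup.mk' M), fun m => by
        rw [MonoidHom.comp_apply, QuotientGroup.mk'_apply, (QuotientGroup.eq_one_iff _).mpr m.2,
          map_one]⟩
      refine ⟨l, Subtype.ext ?_⟩
      have hl : (η : G → ℂ) = fun g => ((l.1 : G →* ℂˣ) g : ℂ) :=
        funext fun g => by rw [← hmk g, hlam]; rfl
      rw [hl] at hη2
      exact Subtype.ext (CT.eq_of_inner_ne_zero χ'.1.2 (isIrr_twist χ.1.2 l.1) hη2).symm)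
  exact ⟨χ.1, (inv_iff_fixed φ χ.1).mpr
    fun a => congrArg Subtype.val (hχ (QuotientGroup.mk a)), χ.2⟩

theorem above_aux : ∀ (n : ℕ) (G : Type u) [Group G] [Fintype G] (A : Type v) [Group A]
    (φ : A →* MulAut G) (A0 : Subgroup A) [A0.Normal] [Finite (A ⧸ A0)] (N : Subgroup G)
    [N.Normal] [Fintype N] (hN : ∀ a, ∀ x ∈ N, φ a x ∈ N) (θ : Cfsg.IrrCharacter N),
    N.index = n → (∀ a ∈ A0, ∃ x ∈ N, ∀ g, φ a g = x * g * x⁻¹) → Group.IsSolvable (G ⧸ N) →
    N.index.Coprime (Nat.card (A ⧸ A0)) → Inv (resN φ N hN) (θ : N → ℂ) →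
    ∃ χ : Cfsg.IrrCharacter G, Inv φ (χ : G → ℂ) ∧
      Cfsg.classInner (fun x : N => (χ : G → ℂ) x) (θ : N → ℂ) ≠ 0 := by
  classical
  intro n
  induction n using Nat.strong_induction_on with
  | _ n ih =>
    intro G _ _ A _ φ A0 _ _ N _ _ hN θ hn hA0 hsolv hcop hθ
    by_cases hab : ∀ a b : G ⧸ N, a * b = b * a
    · exact exists_inv_above_abelian φ A0 N hN hA0 hab hcop θ hθ
    have hcomm : commutator (G ⧸ N) = (commutator G).map (QuotientGroup.mk' N) := by
      rw [commutator_def, commutator_def, Subgroup.map_commutator,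
        Subgroup.map_top_of_surjective _ (QuotientGroup.mk'_surjective N)]
    let M : Subgroup G := N ⊔ commutator G
    have hMmap : M.map (QuotientGroup.mk' N) = commutator (G ⧸ N) := by
      rw [Subgroup.map_sup, QuotientGroup.map_mk'_self, bot_sup_eq, hcomm]
    have hNM : N ≤ M := le_sup_left
    have hMne : M ≠ N := by
      intro h
      rw [h, QuotientGroup.map_mk'_self] at hMmap
      refine hab fun a b => commutatorElement_eq_one_iff_mul_comm.mp ?_
      rw [← Subgroup.mem_bot, hMmap]
      exact Subgroup.commutator_mem_commutator (Subgroup.mem_top a) (Subgroup.mem_top b)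
    have hMtop : M ≠ ⊤ := by
      intro h
      rw [h, Subgroup.map_top_of_surjective _ (QuotientGroup.mk'_surjective N)] at hMmap
      haveI := hsolv
      haveI : Nontrivial (G ⧸ N) := by
        by_contra hnt
        rw [not_nontrivial_iff_subsingleton] at hnt
        exact hab fun a b => Subsingleton.elim _ _
      exact (Group.IsSolvable.commutator_lt_top_of_nontrivial (G ⧸ N)).ne hMmap.symm
    have hM : ∀ a, ∀ x ∈ M, φ a x ∈ M := by
      intro a x hx
      have h1 : M.map (φ a).toMonoidHom ≤ M := by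
        rw [Subgroup.map_sup]
        refine sup_le_sup ?_ ?_
        · rintro _ ⟨y, hy, rfl⟩
          exact hN a y hy
        · rw [commutator_def, Subgroup.map_commutator]
          exact Subgroup.commutator_mono le_top le_top
      exact h1 (Subgroup.mem_map_of_mem _ hx)
    let N' : Subgroup M := N.subgroupOf M
    let e : N' ≃* N := Subgroup.subgroupOfEquivOfLe hNM
    have hN' : ∀ a, ∀ x ∈ N', resN φ M hM a x ∈ N' := fun a x hx => hN a _ hx
    have hidx : N'.index * M.index = N.index := Subgroup.relIndex_mul_index hNM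
    have hlt : N'.index < n := by
      rw [← hn, ← hidx]
      have h1 : 1 < M.index := Nat.one_lt_iff_ne_zero_and_ne_one.mpr
        ⟨M.index_ne_zero_of_finite, fun h => hMtop (Subgroup.index_eq_one.mp h)⟩
      have h2 := N'.index_ne_zero_of_finite
      nlinarith [Nat.pos_of_ne_zero h2]
    have hsolv' : Group.IsSolvable (M ⧸ N') := by
      haveI := hsolv
      refine Group.isSolvable_of_isSolvable_injective (f := QuotientGroup.map N' N M.subtype (fun x hx => hx)) ?_
      intro x y hxy
      induction x using QuotientGroup.induction_on with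
      | _ x =>
        induction y using QuotientGroup.induction_on with
        | _ y =>
          have h1 : (QuotientGroup.mk (x : G) : G ⧸ N) = QuotientGroup.mk (y : G) := hxy
          refine QuotientGroup.eq.mpr ?_
          show (x : G)⁻¹ * (y : G) ∈ N
          exact QuotientGroup.eq.mp h1
    obtain ⟨ψ, hψ, hψθ⟩ := ih _ hlt M A (resN φ M hM) A0 N' hN' (compIrr e θ) rfl
      (fun a ha => by
        obtain ⟨x, hx, hg⟩ := hA0 a ha
        exact ⟨⟨x, hNM hx⟩, hx, fun g => Subtype.ext (hg g.1)⟩)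
      hsolv' (hcop.coprime_dvd_left (hidx ▸ dvd_mul_right _ _))
      (fun a x => hθ a (e x))
    obtain ⟨χ, hχ, hχψ⟩ := exists_inv_above_abelian φ A0 M hM
      (fun a ha => by
        obtain ⟨x, hx, hg⟩ := hA0 a ha
        exact ⟨x, hNM hx, hg⟩)
      (fun a b => by
        induction a using QuotientGroup.induction_on with
        | _ a =>
          induction b using QuotientGroup.induction_on with
          | _ b =>
            refine commutatorElement_eq_one_iff_mul_comm.mp ?_
            show QuotientGroup.mk' M ⁅a, b⁆ = 1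
            exact (QuotientGroup.eq_one_iff _).mpr (Subgroup.mem_sup_right
              (Subgroup.commutator_mem_commutator (Subgroup.mem_top a) (Subgroup.mem_top b))))
      (hcop.coprime_dvd_left (hidx ▸ dvd_mul_left _ _)) ψ hψ
    refine ⟨χ, hχ, ?_⟩
    rw [← classInner_comp_equiv e]
    exact CT.classInner_eq_of_res_ne_zero
      (CT.isCharacter_restrict M (CT.isCharacter_of_isIrr χ.2)) ψ.2
      (CT.isCharacter_of_isIrr (compIrr e θ).2) hχψ hψθ

/-- An invariant character lies under an invariant one, for solvable quotient and coprime index. -/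
theorem exists_inv_above {G : Type u} [Group G] [Fintype G] {A : Type v} [Group A]
    (φ : A →* MulAut G) (A0 : Subgroup A) [A0.Normal] [Finite (A ⧸ A0)] (N : Subgroup G)
    [N.Normal] [Fintype N] (hN : ∀ a, ∀ x ∈ N, φ a x ∈ N)
    (hA0 : ∀ a ∈ A0, ∃ x ∈ N, ∀ g, φ a g = x * g * x⁻¹) (hsolv : Group.IsSolvable (G ⧸ N))
    (hcop : N.index.Coprime (Nat.card (A ⧸ A0))) (θ : Cfsg.IrrCharacter N)
    (hθ : Inv (resN φ N hN) (θ : N → ℂ)) :
    ∃ χ : Cfsg.IrrCharacter G, Inv φ (χ : G → ℂ) ∧
      Cfsg.classInner (fun x : N => (χ : G → ℂ) x) (θ : N → ℂ) ≠ 0 :=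
  above_aux _ G A φ A0 N hN θ rfl hA0 hsolv hcop hθ

end Above

section Below

/-- An invariant character has an invariant constituent below, for coprime index. -/
theorem exists_inv_below {G : Type u} [Group G] [Fintype G] {A : Type v} [Group A] [Finite A]
    (φ : A →* MulAut G) (N : Subgroup G) [hNn : N.Normal] [Fintype N]
    (hN : ∀ a, ∀ x ∈ N, φ a x ∈ N) (hcop : N.index.Coprime (Nat.card A))
    (hsolv : Group.IsSolvable A ∨ Group.IsSolvable (G ⧸ N)) (χ : Cfsg.IrrCharacter G)
    (hχ : Inv φ (χ : G → ℂ)) :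
    ∃ θ : Cfsg.IrrCharacter N, Inv (resN φ N hN) (θ : N → ℂ) ∧
      Cfsg.classInner (fun x : N => (χ : G → ℂ) x) (θ : N → ℂ) ≠ 0 := by
  classical
  have hχc := CT.isClassFunction_of_isIrr χ.2
  let X := {θ : Cfsg.IrrCharacter N // Cfsg.classInner (fun x : N => (χ : G → ℂ) x) (θ : N → ℂ) ≠ 0}
  haveI : Nonempty X := nonempty_subtype.mpr (CT.exists_constituent_restrict N χ.2)
  let mv : G → X → X := fun g θ => ⟨⟨_, CT.isIrrCharacter_conjFun N g⁻¹ θ.1.2⟩, by
    show Cfsg.classInner (fun x : N => (χ : G → ℂ) x) (CT.conjFun N g⁻¹ θ.1) ≠ 0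
    rw [CT.classInner_restrict_conjFun N hχc]
    exact θ.2⟩
  let κ0 : G →* Equiv.Perm X :=
    { toFun := fun g =>
        { toFun := mv g
          invFun := mv g⁻¹
          left_inv := fun θ => Subtype.ext (Subtype.ext (by
            show CT.conjFun N g⁻¹⁻¹ (CT.conjFun N g⁻¹ θ.1) = _
            rw [← CT.conjFun_mul, inv_inv, inv_mul_cancel, CT.conjFun_one]))
          right_inv := fun θ => Subtype.ext (Subtype.ext (by
            show CT.conjFun N g⁻¹ (CT.conjFun N g⁻¹⁻¹ θ.1) = _
            rw [← CT.conjFun_mul, inv_inv, mul_inv_cancel, CT.conjFun_one])) }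
      map_one' := Equiv.ext fun θ => Subtype.ext (Subtype.ext (by
        show CT.conjFun N (1 : G)⁻¹ θ.1 = _
        rw [inv_one, CT.conjFun_one]
        rfl))
      map_mul' := fun g h => Equiv.ext fun θ => Subtype.ext (Subtype.ext (by
        show CT.conjFun N (g * h)⁻¹ θ.1 = CT.conjFun N g⁻¹ (CT.conjFun N h⁻¹ θ.1)
        rw [← CT.conjFun_mul, mul_inv_rev])) }
  have hκ0 : N ≤ κ0.ker := fun n hn => by
    rw [MonoidHom.mem_ker]
    exact Equiv.ext fun θ => Subtype.ext (Subtype.ext
      (CT.conjFun_of_mem N (CT.isClassFunction_of_isIrr θ.1.2) (inv_mem hn)))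
  have hXa : ∀ (a : A) (θ : X), Cfsg.classInner (fun x : N => (χ : G → ℂ) x)
      (compIrr (resN φ N hN a) θ.1 : N → ℂ) ≠ 0 := by
    intro a θ
    have h := classInner_comp_equiv (resN φ N hN a) (fun y : N => (χ : G → ℂ) y) (θ.1 : N → ℂ)
    have e : (fun x => (χ : G → ℂ) (resN φ N hN a x)) = fun x : N => (χ : G → ℂ) x :=
      funext fun x => hχ a x.1
    rw [e] at h
    exact fun h0 => θ.2 (h.symm.trans h0)
  let α : A →* Equiv.Perm X :=
    { toFun := fun a =>
        { toFun := fun θ => ⟨compIrr (resN φ N hN a⁻¹) θ.1, hXa _ θ⟩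
          invFun := fun θ => ⟨compIrr (resN φ N hN a) θ.1, hXa _ θ⟩
          left_inv := fun θ => Subtype.ext (Subtype.ext (funext fun g => by simp [compIrr_apply]))
          right_inv := fun θ => Subtype.ext (Subtype.ext (funext fun g => by simp [compIrr_apply])) }
      map_one' := Equiv.ext fun θ => Subtype.ext (Subtype.ext (funext fun g => by
        simp [compIrr_apply]))
      map_mul' := fun a b => Equiv.ext fun θ => Subtype.ext (Subtype.ext (funext fun g => by
        simp [compIrr_apply])) }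
  have hmap : ∀ a, N.map (φ a).toMonoidHom = N := by
    intro a
    refine le_antisymm ?_ fun x hx => ⟨φ a⁻¹ x, hN a⁻¹ x hx, by simp⟩
    rintro _ ⟨x, hx, rfl⟩
    exact hN a x hx
  let β : A →* MulAut (G ⧸ N) :=
    { toFun := fun a => QuotientGroup.congr N N (φ a) (hmap a)
      map_one' := MulEquiv.ext fun q => QuotientGroup.induction_on q fun g => by simp
      map_mul' := fun a b => MulEquiv.ext fun q => QuotientGroup.induction_on q fun g => by simp; rfl }
  obtain ⟨θ, hθ⟩ := exists_fixed_point β (QuotientGroup.lift N κ0 hκ0) α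
    (fun a q θ => QuotientGroup.induction_on q fun g =>
      Subtype.ext (Subtype.ext (funext fun n => congrArg (θ.1 : N → ℂ) (Subtype.ext (by
        show g⁻¹ * φ a⁻¹ n.1 * g⁻¹⁻¹ = φ a⁻¹ ((φ a g)⁻¹ * n.1 * (φ a g)⁻¹⁻¹)
        simp [mul_assoc])))))
    (by rw [← Subgroup.index_eq_card]; exact hcop.symm) hsolv (fun x y => by
      obtain ⟨g, hg⟩ := CT.exists_conj_of_constituent N χ.2 x.1.2 y.1.2 x.2 y.2
      refine ⟨QuotientGroup.mk g⁻¹, Subtype.ext (Subtype.ext ?_)⟩
      show CT.conjFun N g⁻¹⁻¹ x.1 = _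
      rw [inv_inv, hg])
  refine ⟨θ.1, fun a n => ?_, θ.2⟩
  have := congrFun (congrArg Subtype.val (congrArg Subtype.val (hθ a⁻¹))) n
  exact (by simpa [α, compIrr_apply] using this)

end Below

end Cfsg.Agent.Glauberman
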