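import Cfsg.Agent.Lib.Glauberman.Reduction

/-!
# Glauberman correspondence for a `p`-group acting on a `p'`-group

The fixed-point restriction of class functions is multiplicative in characteristic `p`; it
matches the invariant irreducible characters with the irreducible characters of the fixed points.
-/

namespace Cfsg.Agent.Glauberman

open Cfsg.Agent

universe u v w

section Fixed

theorem sum_eq_sum_fixed {A : Type*} [Group A] {p : ℕ} [Fact p.Prime] (hA : IsPGroup p A)
    {X : Type*} [Fintype X] (act : A →* Equiv.Perm X) {k : Type*} [CommRing k] [CharP k p]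
    (f : X → k) (hf : ∀ a x, f (act a x) = f x) [DecidablePred fun x => ∀ a, act a x = x] :
    ∑ x, f x = ∑ x ∈ Finset.univ.filter (fun x => ∀ a, act a x = x), f x := by
  classical
  refine (Finset.sum_comp (s := (Finset.univ : Finset X)) id f).trans ?_
  refine Eq.trans ?_ (Finset.sum_comp (s := Finset.univ.filter fun x => ∀ a, act a x = x) id f).symm
  have hcard : ∀ v : k, (((Finset.univ : Finset X).filter fun x => f x = v).card : k) =
      (((Finset.univ.filter fun x => ∀ a, act a x = x).filter fun x => f x = v).card : k) := by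
    intro v
    letI : MulAction A X := MulAction.compHom X act
    let Y : SubMulAction A X :=
      { carrier := {x | f x = v}, smul_mem' := fun a x hx => (hf a x).trans hx }
    have h := hA.card_modEq_card_fixedPoints Y
    rw [← CharP.natCast_eq_natCast k p] at h
    have e1 : Nat.card Y = ((Finset.univ : Finset X).filter fun x => f x = v).card := by
      rw [← Fintype.card_subtype, ← Nat.card_eq_fintype_card]
      exact Nat.card_congr (Equiv.subtypeEquivRight fun x => Iff.rfl)
    have e2 : Nat.card (MulAction.fixedPoints A Y) =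
        ((Finset.univ.filter fun x => ∀ a, act a x = x).filter fun x => f x = v).card := by
      rw [Finset.filter_filter, ← Fintype.card_subtype, ← Nat.card_eq_fintype_card]
      exact Nat.card_congr
        { toFun := fun y => ⟨(y.1 : X), fun a => congrArg Subtype.val (y.2 a), y.1.2⟩
          invFun := fun x => ⟨⟨x.1, x.2.2⟩, fun a => Subtype.ext (x.2.1 a)⟩
          left_inv := fun y => rfl
          right_inv := fun x => rfl }
    rw [← e1, ← e2]
    exact h
  simp only [id, nsmul_eq_mul, hcard]
  refine (Finset.sum_subset (Finset.image_subset_image (Finset.filter_subset _ _)) ?_).symm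
  intro v _ hv
  rw [Finset.filter_eq_empty_iff.mpr, Finset.card_empty, Nat.cast_zero, zero_mul]
  intro x hx hxv
  exact hv (Finset.mem_image.mpr ⟨x, hx, hxv⟩)

theorem sum_eq_sum_of_fixed {A : Type*} [Group A] {p : ℕ} [Fact p.Prime] (hA : IsPGroup p A)
    {X Y : Type*} [Fintype X] [Fintype Y] (act : A →* Equiv.Perm X) (ι : Y → X)
    (hι : Function.Injective ι) (hfix : ∀ x, x ∈ Set.range ι ↔ ∀ a, act a x = x)
    {k : Type*} [CommRing k] [CharP k p] (f : X → k) (hf : ∀ a x, f (act a x) = f x) :
    ∑ x, f x = ∑ y, f (ι y) := by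
  classical
  rw [sum_eq_sum_fixed hA act f hf]
  refine (Finset.sum_bij (fun y _ => ι y) (fun y _ => Finset.mem_filter.mpr
    ⟨Finset.mem_univ _, (hfix _).mp ⟨y, rfl⟩⟩) (fun a _ b _ e => hι e) (fun x hx => ?_)
    (fun y _ => rfl)).symm
  obtain ⟨y, rfl⟩ := (hfix x).mpr (Finset.mem_filter.mp hx).2
  exact ⟨y, Finset.mem_univ _, rfl⟩

end Fixed

section Action

variable {G : Type u} [Group G] {A : Type v} [Group A] (φ : A →* MulAut G)

/-- A function invariant under an action by automorphisms. -/
def Inv {X : Type*} (χ : G → X) : Prop := ∀ a g, χ (φ a g) = χ g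

/-- The action of `A` on irreducible characters. -/
noncomputable def irrPerm : A →* Equiv.Perm (Cfsg.IrrCharacter G) where
  toFun a :=
    { toFun := fun χ => ⟨fun g => (χ : G → ℂ) (φ a⁻¹ g),
        CT.isIrrCharacter_comp (φ a⁻¹).toMonoidHom (φ a⁻¹).surjective χ.2⟩
      invFun := fun χ => ⟨fun g => (χ : G → ℂ) (φ a g),
        CT.isIrrCharacter_comp (φ a).toMonoidHom (φ a).surjective χ.2⟩
      left_inv := fun χ => Subtype.ext (funext fun g => by simp)
      right_inv := fun χ => Subtype.ext (funext fun g => by simp) }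
  map_one' := Equiv.ext fun χ => Subtype.ext (funext fun g => by simp)
  map_mul' a b := Equiv.ext fun χ => Subtype.ext (funext fun g => by simp [mul_inv_rev])

theorem irrPerm_apply (a : A) (χ : Cfsg.IrrCharacter G) (g : G) :
    ((irrPerm φ a χ : Cfsg.IrrCharacter G) : G → ℂ) g = (χ : G → ℂ) (φ a⁻¹ g) := rfl

theorem inv_iff_fixed (χ : Cfsg.IrrCharacter G) :
    Inv φ (χ : G → ℂ) ↔ ∀ a, irrPerm φ a χ = χ := by
  constructor
  · exact fun h a => Subtype.ext (funext fun g => h a⁻¹ g)
  · intro h a g
    have := congrFun (congrArg Subtype.val (h a⁻¹)) g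
    rw [irrPerm_apply, inv_inv] at this
    exact this

/-- The action of `A` as permutations of the underlying set. -/
def elemPerm : A →* Equiv.Perm G where
  toFun a := (φ a).toEquiv
  map_one' := Equiv.ext fun g => by simp
  map_mul' a b := Equiv.ext fun g => by simp

theorem elemPerm_apply (a : A) (g : G) : elemPerm φ a g = φ a g := rfl

end Action

section Data

variable {G : Type u} [Group G] [Fintype G] {A : Type v} [Group A] {φ : A →* MulAut G}
  {C : Type w} [Group C] [Fintype C] {ι : C →* G} {p : ℕ} [Fact p.Prime] (hA : IsPGroup p A)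
  (hp : ¬ p ∣ Nat.card G) (hι : Function.Injective ι)
  (hfix : ∀ g, g ∈ ι.range ↔ ∀ a, φ a g = g)

include hfix in
theorem iota_fixed (a : A) (c : C) : φ a (ι c) = ι c := (hfix _).mp ⟨c, rfl⟩ a

include hp hι in
theorem not_dvd_card_fixed : ¬ p ∣ Nat.card C := fun h => hp (h.trans (by
  rw [Nat.card_congr (Equiv.ofInjective ι hι)]
  exact (ι.range).card_subgroup_dvd_card))

include hA hp hι hfix in
/-- Fixed elements conjugate in the group are conjugate among the fixed elements. -/
theorem fusion {c c' : C} (h : IsConj (ι c) (ι c')) : IsConj c c' := by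
  classical
  obtain ⟨g0, hg0⟩ := isConj_iff.mp h
  letI : MulAction A {g : G // g * ι c * g⁻¹ = ι c'} :=
    { smul := fun a g => ⟨φ a g.1, by
        have := congrArg (φ a) g.2
        simpa [map_mul, map_inv, iota_fixed hfix] using this⟩
      one_smul := fun g => Subtype.ext (by show φ 1 g.1 = g.1; simp)
      mul_smul := fun a b g => Subtype.ext (by show φ (a * b) g.1 = φ a (φ b g.1); simp) }
  have hcard : Nat.card {g : G // g * ι c * g⁻¹ = ι c'} =
      Nat.card (Subgroup.centralizer ({ι c} : Set G)) := by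
    refine Nat.card_congr
      { toFun := fun g => ⟨g0⁻¹ * g.1, Subgroup.mem_centralizer_singleton_iff.mpr ?_⟩
        invFun := fun z => ⟨g0 * z.1, ?_⟩
        left_inv := fun g => Subtype.ext (by simp)
        right_inv := fun z => Subtype.ext (by simp) }
    · have h1 : g.1 * ι c * g.1⁻¹ = g0 * ι c * g0⁻¹ := g.2.trans hg0.symm
      have h2 : g0⁻¹ * (g.1 * ι c * g.1⁻¹) * g.1 = g0⁻¹ * (g0 * ι c * g0⁻¹) * g.1 := by rw [h1]
      simpa [mul_assoc] using h2
    · have h1 := Subgroup.mem_centralizer_singleton_iff.mp z.2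
      rw [← hg0]
      calc g0 * z.1 * ι c * (g0 * z.1)⁻¹ = g0 * (z.1 * ι c) * (g0 * z.1)⁻¹ := by group
        _ = g0 * (ι c * z.1) * (g0 * z.1)⁻¹ := by rw [h1]
        _ = g0 * ι c * g0⁻¹ := by group
  obtain ⟨g, hg⟩ := hA.nonempty_fixed_point_of_prime_not_dvd_card {g : G // g * ι c * g⁻¹ = ι c'}
    (by rw [hcard]; exact fun h => hp (h.trans (Subgroup.card_subgroup_dvd_card _)))
  obtain ⟨d, hd⟩ := (hfix g.1).mpr fun a => congrArg Subtype.val (hg a)
  exact isConj_iff.mpr ⟨d, hι (by simp [map_mul, map_inv, hd, g.2])⟩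

variable {k : Type*} [Field k] [CharP k p] {red : Cfsg.AlgInt →+* k}

include hp in
omit [Fact p.Prime] in
theorem card_ne_zero_k : (Nat.card G : k) ≠ 0 := fun h => hp ((CharP.cast_eq_zero_iff k p _).mp h)

include hA hι hfix in
theorem card_eq_k : (Nat.card G : k) = (Nat.card C : k) := by
  have := sum_eq_sum_of_fixed hA (elemPerm φ) ι hι (fun x => hfix x) (fun _ => (1 : k))
    (fun _ _ => rfl)
  simpa [Nat.card_eq_fintype_card] using this

/-- The restriction of the reduced idempotent of `χ` to the fixed points. -/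
noncomputable def resIdem (red : Cfsg.AlgInt →+* k) (ι : C →* G) (χ : Cfsg.IrrCharacter G) :
    C → k := fun c => idem red χ (ι c)

omit [CharP k p] [Fact p.Prime] [Fintype C] in
theorem resIdem_class (χ : Cfsg.IrrCharacter G) (a b : C) (h : IsConj a b) :
    resIdem red ι χ a = resIdem red ι χ b :=
  idem_class red χ _ _ (MonoidHom.map_isConj ι h)

omit [CharP k p] [Fact p.Prime] in
theorem idem_inv {χ : Cfsg.IrrCharacter G} (h : Inv φ (χ : G → ℂ)) (a : A) (g : G) :
    idem red χ (φ a g) = idem red χ g := by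
  have : valInt χ (φ a g)⁻¹ = valInt χ g⁻¹ := Subtype.ext (by
    show (χ : G → ℂ) (φ a g)⁻¹ = (χ : G → ℂ) g⁻¹
    rw [← map_inv, h])
  simp only [idem, rv, this]

include hA hι hfix in
theorem res_conv {f h : G → k} (hf : ∀ a g, f (φ a g) = f g) (hh : ∀ a g, h (φ a g) = h g)
    (c : C) : conv (fun d => f (ι d)) (fun d => h (ι d)) c = conv f h (ι c) := by
  refine ((sum_eq_sum_of_fixed hA (elemPerm φ) ι hι (fun x => hfix x)
    (fun x => f x * h (x⁻¹ * ι c)) ?_).trans ?_).symm
  · intro a x
    simp only [elemPerm_apply]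
    rw [hf, ← map_inv, ← iota_fixed hfix a c, ← map_mul, hh, iota_fixed hfix a c]
  · simp [conv]

variable (hred : Function.Surjective red)

omit [Fact p.Prime] in
include hp hred in
theorem conv_idem_mul {f : G → k} (hf : ∀ a b, IsConj a b → f a = f b) (χ : Cfsg.IrrCharacter G)
    (g : G) : conv (idem red χ) f g = omega red χ f * idem red χ g := by
  classical
  have hG := card_ne_zero_k (k := k) hp
  rw [eq_sum_omega red hG (fun a b => conv_class (idem_class red χ) hf) g]
  rw [Finset.sum_eq_single χ]
  · rw [omega_conv red hG hred hf, omega_idem red hG, if_pos rfl, one_mul]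
  · intro ψ _ hne
    rw [omega_conv red hG hred hf, omega_idem red hG, if_neg (Ne.symm hne), zero_mul, zero_mul]
  · intro h; exact absurd (Finset.mem_univ χ) h

include hA hp hι hfix hred in
theorem resIdem_mul [DecidableEq (Cfsg.IrrCharacter G)] {χ χ' : Cfsg.IrrCharacter G}
    (h : Inv φ (χ : G → ℂ)) (h' : Inv φ (χ' : G → ℂ)) (c : C) :
    conv (resIdem red ι χ) (resIdem red ι χ') c = if χ = χ' then resIdem red ι χ c else 0 := by
  rw [show conv (resIdem red ι χ) (resIdem red ι χ') c = conv (idem red χ) (idem red χ') (ι c) from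
    res_conv hA hι hfix (idem_inv h) (idem_inv h') c,
    conv_idem_mul hp hred (idem_class red χ'), omega_idem red (card_ne_zero_k hp)]
  by_cases e : χ = χ'
  · subst e; simp [resIdem]
  · rw [if_neg e, if_neg (fun e' => e e'.symm), zero_mul]

include hA hp hfix in
theorem sum_resIdem [DecidableEq C] (hι : Function.Injective ι)
    [DecidablePred fun χ : Cfsg.IrrCharacter G => ∀ a, irrPerm φ a χ = χ] (c : C) :
    ∑ χ ∈ Finset.univ.filter (fun χ : Cfsg.IrrCharacter G => ∀ a, irrPerm φ a χ = χ),
      resIdem red ι χ c = if c = 1 then 1 else 0 := by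
  classical
  rw [← sum_eq_sum_fixed hA (irrPerm φ) (fun χ => resIdem red ι χ c) ?_]
  · rw [show ∑ χ : Cfsg.IrrCharacter G, resIdem red ι χ c = _ from sum_idem red (card_ne_zero_k hp) (ι c)]
    by_cases e : c = 1
    · subst e; simp
    · rw [if_neg e, if_neg (fun e' => e (hι (e'.trans ι.map_one.symm)))]
  · intro a χ
    have e : ∀ g : G, (∀ b, φ b g = g) → valInt (irrPerm φ a χ) g = valInt χ g := fun g hg =>
      Subtype.ext (by show (χ : G → ℂ) (φ a⁻¹ g) = (χ : G → ℂ) g; rw [hg])
    simp only [resIdem, idem, rv]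
    rw [e 1 (fun b => map_one _), e (ι c)⁻¹ (fun b => by rw [map_inv, iota_fixed hfix])]

include hA hp hι hfix hred in
theorem exists_idem_match (β : Cfsg.IrrCharacter C) :
    ∃ χ : Cfsg.IrrCharacter G, Inv φ (χ : G → ℂ) ∧ omega red β (resIdem red ι χ) = 1 := by
  classical
  have hC : (Nat.card C : k) ≠ 0 := card_ne_zero_k (not_dvd_card_fixed hp hι)
  have h1 : ∑ χ ∈ Finset.univ.filter (fun χ : Cfsg.IrrCharacter G => ∀ a, irrPerm φ a χ = χ),
      omega red β (resIdem red ι χ) = 1 := by
    simp only [omega]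
    rw [← Finset.sum_div, Finset.sum_comm]
    simp only [← Finset.sum_mul, sum_resIdem hA hp hfix hι]
    simp [rv_one_ne_zero red hC β]
  obtain ⟨χ, hχ, hne⟩ := Finset.exists_ne_zero_of_sum_ne_zero (h1 ▸ one_ne_zero)
  have hχi : Inv φ (χ : G → ℂ) := (inv_iff_fixed φ χ).mpr (Finset.mem_filter.mp hχ).2
  refine ⟨χ, hχi, ?_⟩
  have hsq : omega red β (resIdem red ι χ) * omega red β (resIdem red ι χ) =
      omega red β (resIdem red ι χ) := by
    rw [← omega_conv red hC hred (resIdem_class χ)]
    congr 1
    funext c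
    rw [resIdem_mul hA hp hι hfix hred hχi hχi, if_pos rfl]
  exact (mul_eq_left₀ hne).mp hsq

include hA hp hι hfix hred in
theorem idem_match_unique {χ χ' : Cfsg.IrrCharacter G} (h : Inv φ (χ : G → ℂ))
    (h' : Inv φ (χ' : G → ℂ)) (β : Cfsg.IrrCharacter C)
    (e : omega red β (resIdem red ι χ) = 1) (e' : omega red β (resIdem red ι χ') = 1) :
    χ = χ' := by
  classical
  by_contra hne
  have hC : (Nat.card C : k) ≠ 0 := card_ne_zero_k (not_dvd_card_fixed hp hι)
  have h0 : omega red β (conv (resIdem red ι χ) (resIdem red ι χ')) = 0 := by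
    have : conv (resIdem red ι χ) (resIdem red ι χ') = fun _ => 0 := funext fun c => by
      rw [resIdem_mul hA hp hι hfix hred h h', if_neg hne]
    rw [this]
    simp [omega]
  rw [omega_conv red hC hred (resIdem_class χ'), e, e', one_mul] at h0
  exact one_ne_zero h0

include hA hp hι hfix in
/-- Class functions of the fixed points lift to invariant class functions. -/
theorem exists_lift {h : C → k} (hh : ∀ a b, IsConj a b → h a = h b) :
    ∃ f : G → k, (∀ a b, IsConj a b → f a = f b) ∧ (∀ a g, f (φ a g) = f g) ∧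
      ∀ c, f (ι c) = h c := by
  classical
  let f : G → k := fun g => if hg : ∃ c, IsConj g (ι c) then h (Classical.choose hg) else 0
  have key : ∀ g c, IsConj g (ι c) → f g = h c := by
    intro g c hc
    have hg : ∃ c, IsConj g (ι c) := ⟨c, hc⟩
    simp only [f, dif_pos hg]
    exact hh _ _ (fusion hA hp hι hfix ((Classical.choose_spec hg).symm.trans hc))
  have key0 : ∀ g, (¬ ∃ c, IsConj g (ι c)) → f g = 0 := fun g hg => dif_neg hg
  refine ⟨f, fun a b hab => ?_, fun a g => ?_, fun c => key _ c (IsConj.refl _)⟩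
  · by_cases hg : ∃ c, IsConj b (ι c)
    · obtain ⟨c, hc⟩ := hg
      rw [key a c (hab.trans hc), key b c hc]
    · rw [key0 b hg, key0 a (fun ⟨c, hc⟩ => hg ⟨c, hab.symm.trans hc⟩)]
  · by_cases hg : ∃ c, IsConj g (ι c)
    · obtain ⟨c, hc⟩ := hg
      have h2 : IsConj (φ a g) (ι c) := iota_fixed hfix a c ▸ MonoidHom.map_isConj (φ a).toMonoidHom hc
      rw [key _ c h2, key g c hc]
    · rw [key0 g hg, key0 _ ?_]
      rintro ⟨c, hc⟩
      have h2 : IsConj (φ a⁻¹ (φ a g)) (φ a⁻¹ (ι c)) := MonoidHom.map_isConj (φ a⁻¹).toMonoidHom hc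
      rw [iota_fixed hfix, ← MulAut.mul_apply, ← map_mul] at h2
      exact hg ⟨c, by simpa using h2⟩

include hA hp hι hfix hred in
theorem idem_match_inj {χ : Cfsg.IrrCharacter G} (h : Inv φ (χ : G → ℂ))
    (β β' : Cfsg.IrrCharacter C) (e : omega red β (resIdem red ι χ) = 1)
    (e' : omega red β' (resIdem red ι χ) = 1) : β = β' := by
  classical
  by_contra hne
  have hC : (Nat.card C : k) ≠ 0 := card_ne_zero_k (not_dvd_card_fixed hp hι)
  obtain ⟨f, hf1, hf2, hf3⟩ := exists_lift hA hp hι hfix (idem_class red β)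
  have hconv : conv (resIdem red ι χ) (idem red β) = fun c => omega red χ f * resIdem red ι χ c := by
    funext c
    have h1 := res_conv hA hι hfix (idem_inv (red := red) h) hf2 c
    rw [conv_idem_mul hp hred hf1] at h1
    simp only [hf3] at h1
    exact h1
  have hlin : ∀ γ : Cfsg.IrrCharacter C,
      omega red γ (fun c => omega red χ f * resIdem red ι χ c) =
        omega red χ f * omega red γ (resIdem red ι χ) := by
    intro γ
    simp only [omega, ← mul_div_assoc, Finset.mul_sum, mul_assoc]
  have h1 := congrArg (omega red β) hconv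
  rw [omega_conv red hC hred (idem_class red β), omega_idem red hC, if_pos rfl, hlin, e] at h1
  have h2 := congrArg (omega red β') hconv
  rw [omega_conv red hC hred (idem_class red β), omega_idem red hC, if_neg hne, hlin, e', mul_zero] at h2
  simp only [mul_one] at h1 h2
  exact one_ne_zero (h1.trans h2.symm)

include hA hp hι hfix hred in
/-- The correspondence, with its congruence of values. -/
theorem exists_match :
    ∃ Φ : {χ : Cfsg.IrrCharacter G // Inv φ (χ : G → ℂ)} ≃ Cfsg.IrrCharacter C,
      ∀ χ, ∃ γ : k, γ * γ = 1 ∧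
        ∀ c, rv red χ.1 (ι c) = γ * rv red (Φ χ) c := by
  classical
  have hC : (Nat.card C : k) ≠ 0 := card_ne_zero_k (not_dvd_card_fixed hp hι)
  have hG : (Nat.card G : k) ≠ 0 := card_ne_zero_k hp
  choose F hFi hF using exists_idem_match hA hp hι hfix hred
  let Ψ : Cfsg.IrrCharacter C → {χ : Cfsg.IrrCharacter G // Inv φ (χ : G → ℂ)} :=
    fun β => ⟨F β, hFi β⟩
  have hinj : Function.Injective Ψ := fun β β' e => by
    have e' : F β = F β' := congrArg Subtype.val e
    exact idem_match_inj hA hp hι hfix hred (hFi β) β β' (hF β) (e' ▸ hF β')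
  have hzero : ∀ (χ : {χ : Cfsg.IrrCharacter G // Inv φ (χ : G → ℂ)}) (β : Cfsg.IrrCharacter C),
      F β ≠ χ.1 → omega red β (resIdem red ι χ.1) = 0 := by
    intro χ β hne
    have h0 : omega red β (conv (resIdem red ι χ.1) (resIdem red ι (F β))) = 0 := by
      have : conv (resIdem red ι χ.1) (resIdem red ι (F β)) = fun _ => 0 := funext fun c => by
        rw [resIdem_mul hA hp hι hfix hred χ.2 (hFi β), if_neg (Ne.symm hne)]
      rw [this]
      simp [omega]
    rwa [omega_conv red hC hred (resIdem_class (F β)), hF β, mul_one] at h0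
  have hsurj : Function.Surjective Ψ := by
    intro χ
    by_contra hh
    push Not at hh
    have h := eq_sum_omega red hC (resIdem_class (red := red) (ι := ι) χ.1) 1
    rw [Finset.sum_eq_zero (fun β _ => by
      rw [hzero χ β (fun e => hh β (Subtype.ext e)), zero_mul])] at h
    have : rv red χ.1 1 * rv red χ.1 1 / (Nat.card G : k) = 0 := by
      simpa [resIdem, idem] using h
    exact div_ne_zero (mul_ne_zero (rv_one_ne_zero red hG χ.1) (rv_one_ne_zero red hG χ.1)) hG this
  let Φ := (Equiv.ofBijective Ψ ⟨hinj, hsurj⟩).symm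
  refine ⟨Φ, fun χ => ?_⟩
  have hΦ : Ψ (Φ χ) = χ := (Equiv.ofBijective Ψ ⟨hinj, hsurj⟩).apply_symm_apply χ
  have heq : ∀ c, resIdem red ι χ.1 c = idem red (Φ χ) c := by
    intro c
    rw [eq_sum_omega red hC (resIdem_class χ.1) c, Finset.sum_eq_single (Φ χ)]
    · have := hF (Φ χ)
      rw [show F (Φ χ) = χ.1 from congrArg Subtype.val hΦ] at this
      rw [this, one_mul]
    · intro β _ hβ
      rw [hzero χ β (fun e => hβ (hinj ((Subtype.ext e : Ψ β = χ).trans hΦ.symm))), zero_mul]
    · intro h; exact absurd (Finset.mem_univ _) h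
  have h1 := rv_one_ne_zero red hG χ.1
  have hv : ∀ c, rv red χ.1 1 * rv red χ.1 (ι c) = rv red (Φ χ) 1 * rv red (Φ χ) c := by
    intro c
    have h := heq c⁻¹
    simp only [resIdem, idem, map_inv, inv_inv, card_eq_k (k := k) hA hι hfix] at h
    rwa [div_left_inj' hC] at h
  refine ⟨rv red (Φ χ) 1 / rv red χ.1 1, ?_, fun c => ?_⟩
  · have := hv 1
    rw [map_one] at this
    rw [div_mul_div_comm, ← this]
    field_simp
  · rw [div_mul_eq_mul_div, ← hv c]
    field_simp

end Data

end Cfsg.Agent.Glauberman
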