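import Cfsg.Agent.Lib.Glauberman.PGroup

/-!
# The Glauberman correspondence for a `p`-group of operators, stated by multiplicities
-/

namespace Cfsg.Agent.Glauberman

open Cfsg.Agent

open scoped ComplexConjugate

universe u v w

section Residue

theorem exists_residue_hom (p : ℕ) [hp : Fact p.Prime] :
    ∃ (k : Type) (_ : Field k) (_ : CharP k p) (red : Cfsg.AlgInt →+* k),
      Function.Surjective red := by
  have hne : Ideal.span ({(p : Cfsg.AlgInt)} : Set Cfsg.AlgInt) ≠ ⊤ := by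
    rw [Ne, Ideal.span_singleton_eq_top]
    intro h
    obtain ⟨x, hx⟩ := h.exists_right_inv
    have hx' : (p : ℂ) * (x : ℂ) = 1 := by exact_mod_cast congrArg Subtype.val hx
    have hxe : (x : ℂ) = ((1 : ℕ) : ℂ) / (p : ℂ) := by
      rw [eq_div_iff (Nat.cast_ne_zero.mpr hp.out.ne_zero), Nat.cast_one, mul_comm]
      exact hx'
    have := CT.dvd_of_isIntegral_div hp.out.ne_zero (hxe ▸ x.2)
    exact hp.out.one_lt.ne' (Nat.dvd_one.mp this)
  obtain ⟨M, hM, hle⟩ := Ideal.exists_le_maximal _ hne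
  haveI := hM
  let red := Ideal.Quotient.mk M
  have h0 : ((p : ℕ) : Cfsg.AlgInt ⧸ M) = 0 := by
    rw [← map_natCast red p]
    exact Ideal.Quotient.eq_zero_iff_mem.mpr (hle (Ideal.mem_span_singleton_self _))
  letI := Ideal.Quotient.field M
  exact ⟨Cfsg.AlgInt ⧸ M, inferInstance,
    (CharP.charP_iff_prime_eq_zero hp.out).mpr h0,
    red, Ideal.Quotient.mk_surjective⟩

end Residue

section Fixed

variable {G : Type u} [Group G] {A : Type v} [Group A]

/-- The fixed-point subgroup of an action by automorphisms. -/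
def fixedPts (φ : A →* MulAut G) : Subgroup G where
  carrier := {g | ∀ a, φ a g = g}
  one_mem' _ := map_one _
  mul_mem' ha hb c := by rw [map_mul, ha c, hb c]
  inv_mem' ha c := by rw [map_inv, ha c]

theorem mem_fixedPts {φ : A →* MulAut G} {g : G} : g ∈ fixedPts φ ↔ ∀ a, φ a g = g := Iff.rfl

theorem range_fixedPts (φ : A →* MulAut G) (g : G) :
    g ∈ (fixedPts φ).subtype.range ↔ ∀ a, φ a g = g := by
  rw [Subgroup.range_subtype]
  exact Iff.rfl

end Fixed

section Corr

variable {G : Type u} [Group G] [Fintype G] {A : Type v} [Group A] {φ : A →* MulAut G}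
  {C : Type w} [Group C] [Fintype C] {ι : C →* G} {p : ℕ} [Fact p.Prime] (hA : IsPGroup p A)
  (hp : ¬ p ∣ Nat.card G) (hι : Function.Injective ι)
  (hfix : ∀ g, g ∈ ι.range ↔ ∀ a, φ a g = g)

include hA hp hι hfix in
/-- The correspondence: the unique constituent of multiplicity prime to `p`. -/
theorem corr :
    ∃ Φ : {χ : Cfsg.IrrCharacter G // Inv φ (χ : G → ℂ)} ≃ Cfsg.IrrCharacter C,
      ∀ χ, ∀ δ : Cfsg.IrrCharacter C, ∀ m : ℕ, Cfsg.classInner (fun c => (χ.1 : G → ℂ) (ι c)) (δ : C → ℂ) = (m : ℂ) →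
        (¬ p ∣ m ↔ δ = Φ χ) ∧ (¬ p ∣ m → ((m : ℤ) ≡ 1 [ZMOD p] ∨ (m : ℤ) ≡ -1 [ZMOD p])) := by
  classical
  obtain ⟨k, _, _, red, hred⟩ := exists_residue_hom p
  obtain ⟨Φ, hΦ⟩ := exists_match hA hp hι hfix hred
  refine ⟨Φ, fun χ δ m hm => ?_⟩
  obtain ⟨γ, hγ, hv⟩ := hΦ χ
  have hC : (Nat.card C : k) ≠ 0 := card_ne_zero_k (not_dvd_card_fixed hp hι)
  have h1 : ∑ c, valInt χ.1 (ι c) * valInt δ c⁻¹ = (Nat.card C : Cfsg.AlgInt) * (m : Cfsg.AlgInt) :=
    Subtype.ext (by
      push_cast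
      rw [← hm, Cfsg.classInner, ← mul_assoc, mul_inv_cancel₀ CT.card_ne_zero, one_mul]
      refine Finset.sum_congr rfl fun c _ => ?_
      show _ * (δ : C → ℂ) c⁻¹ = _
      rw [CT.char_inv_eq_conj (CT.isCharacter_of_isIrr δ.2)]
      rfl)
  have h2 : ∑ c, valInt δ c⁻¹ * valInt (Φ χ) c =
      if δ = Φ χ then (Nat.card C : Cfsg.AlgInt) else 0 := Subtype.ext (by
    push_cast
    rw [show ∑ c : C, ((valInt δ c⁻¹ : Cfsg.AlgInt) : ℂ) * ((valInt (Φ χ) c : Cfsg.AlgInt) : ℂ) = _
      from row_orthogonality δ (Φ χ)]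
    split_ifs <;> simp)
  have h1' := congrArg red h1
  have h2' := congrArg red h2
  simp only [map_sum, map_mul, apply_ite red, map_natCast, map_zero] at h1' h2'
  have h3 : (m : k) = if δ = Φ χ then γ else 0 := by
    refine mul_left_cancel₀ hC ?_
    rw [← h1']
    calc ∑ c, red (valInt χ.1 (ι c)) * red (valInt δ c⁻¹)
        = γ * ∑ c, red (valInt δ c⁻¹) * red (valInt (Φ χ) c) := by
          rw [Finset.mul_sum]
          refine Finset.sum_congr rfl fun c _ => ?_
          have := hv c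
          simp only [rv] at this
          rw [this]; ring
      _ = _ := by
          rw [h2']
          split_ifs <;> simp [mul_comm]
  have hγ0 : γ ≠ 0 := fun h => by simp [h] at hγ
  have key : ¬ p ∣ m ↔ δ = Φ χ := by
    rw [← CharP.cast_eq_zero_iff k p, h3]
    split_ifs with e <;> simp [e, hγ0]
  refine ⟨key, fun hm' => ?_⟩
  rw [if_pos (key.mp hm')] at h3
  rcases mul_self_eq_one_iff.mp hγ with e | e
  · left
    refine (CharP.intCast_eq_intCast k p).mp ?_
    push_cast
    rw [h3, e]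
  · right
    refine (CharP.intCast_eq_intCast k p).mp ?_
    push_cast
    rw [h3, e]

end Corr

end Cfsg.Agent.Glauberman
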