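import Cfsg.Agent.Lib.Basics.CoprimeAction
import Mathlib.GroupTheory.SemidirectProduct
import Mathlib.GroupTheory.Solvable

/-!
# Glauberman's lemma for abstract operator groups
-/

namespace Cfsg.Agent.Glauberman

universe u v w

open Cfsg.Agent

/-- A group of operators of coprime order on a group with a compatible transitive action has a
fixed point. -/
theorem exists_fixed_point {K : Type u} [Group K] [Finite K] {A : Type v} [Group A] [Finite A]
    {X : Type w} [Nonempty X] (ψ : A →* MulAut K) (κ : K →* Equiv.Perm X) (α : A →* Equiv.Perm X)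
    (hcompat : ∀ a k x, α a (κ k x) = κ (ψ a k) (α a x))
    (hcop : (Nat.card A).Coprime (Nat.card K))
    (hsolv : Group.IsSolvable A ∨ Group.IsSolvable K) (htrans : ∀ x y, ∃ k, κ k x = y) :
    ∃ x, ∀ a, α a x = x := by
  classical
  let Q := K ⋊[ψ] A
  haveI : Finite Q := Finite.of_equiv _ SemidirectProduct.equivProd.symm
  let ρ : Q →* Equiv.Perm X := SemidirectProduct.lift κ α (fun a => by
    refine MonoidHom.ext fun k => Equiv.ext fun x => ?_
    show κ (ψ a k) x = α a (κ k ((α a)⁻¹ x))
    rw [hcompat, ← Equiv.Perm.mul_apply (α a), mul_inv_cancel]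
    rfl)
  letI : MulAction Q X := MulAction.compHom X ρ
  let Kq : Subgroup Q := (SemidirectProduct.inl : K →* Q).range
  let Aq : Subgroup Q := (SemidirectProduct.inr : A →* Q).range
  have hK : Nat.card Kq = Nat.card K :=
    (Nat.card_congr (MonoidHom.ofInjective SemidirectProduct.inl_injective).toEquiv).symm
  have hA : Nat.card Aq = Nat.card A :=
    (Nat.card_congr (MonoidHom.ofInjective SemidirectProduct.inr_injective).toEquiv).symm
  have hn : Kq.Normal := by
    rw [show Kq = SemidirectProduct.rightHom.ker from SemidirectProduct.range_inl_eq_ker_rightHom]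
    infer_instance
  obtain ⟨⟨x, -, hx⟩, -⟩ := Basics.glauberman (G := Q) Aq Kq
    (fun a _ => by rw [Subgroup.normalizer_eq_top_iff.mpr hn]; trivial)
    (by rw [hA, hK]; exact hcop)
    (hsolv.imp (fun (h : Group.IsSolvable A) => haveI := h; Group.isSolvable_of_surjective (f := (SemidirectProduct.inr :
        A →* Q).rangeRestrict) (MonoidHom.rangeRestrict_surjective _))
      (fun (h : Group.IsSolvable K) => haveI := h; Group.isSolvable_of_surjective (f := (SemidirectProduct.inl :
        K →* Q).rangeRestrict) (MonoidHom.rangeRestrict_surjective _)))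
    (Set.univ : Set X) Set.univ_nonempty (fun _ _ _ _ => trivial) (fun _ _ _ _ => trivial)
    (fun x _ y _ => by
      obtain ⟨k, hk⟩ := htrans x y
      refine ⟨SemidirectProduct.inl k, ⟨k, rfl⟩, ?_⟩
      show ρ (SemidirectProduct.inl k) x = y
      rw [SemidirectProduct.lift_inl]
      exact hk)
  refine ⟨x, fun a => ?_⟩
  have := hx (SemidirectProduct.inr a) ⟨a, rfl⟩
  rwa [show (SemidirectProduct.inr a : Q) • x = ρ (SemidirectProduct.inr a) x from rfl,
    SemidirectProduct.lift_inr] at this

end Cfsg.Agent.Glauberman
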