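import Cfsg.Prelude.Def_Blocks
import Cfsg.Agent.Lib.CT.Integral
import Mathlib.Algebra.CharP.Quotient
import Mathlib.GroupTheory.PGroup

/-!
# Characters of a `p'`-group reduced to characteristic `p`

For a field `k` of characteristic `p` receiving the algebraic integers and a group of order
prime to `p`, the reduced central idempotents behave like the ordinary ones.
-/

namespace Cfsg.Agent.Glauberman

open Cfsg.Agent

open scoped ComplexConjugate

universe u

section Complex

variable {G : Type u} [Group G] [Fintype G]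

/-- A class function acts on an irreducible character by a scalar. -/
theorem weighted_translate {f : G → ℂ} (hf : Cfsg.IsClassFunction G f) (ψ : Cfsg.IrrCharacter G)
    (g : G) : (∑ x, f x * (ψ : G → ℂ) (x * g)) * (ψ : G → ℂ) 1 =
      (∑ x, f x * (ψ : G → ℂ) x) * (ψ : G → ℂ) g := by
  obtain ⟨ψ, n, ρ, hρ, rfl⟩ := ψ
  have h := congrArg (fun T => LinearMap.trace ℂ _ (T * ρ g)) (CT.weighted_sum_scalar ρ hf)
  have hid : (LinearMap.id : (Fin n → ℂ) →ₗ[ℂ] (Fin n → ℂ)) * ρ g = ρ g := rfl
  simp only [Finset.sum_mul, smul_mul_assoc, map_sum, map_smul, smul_eq_mul, ← map_mul, hid] at h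
  show (∑ x, f x * ρ.character (x * g)) * ρ.character 1 = (∑ x, f x * ρ.character x) * ρ.character g
  have hn : ((Module.finrank ℂ (Fin n → ℂ) : ℕ) : ℂ) ≠ 0 :=
    Nat.cast_ne_zero.mpr (CT.finrank_pos_of_irreducible ρ).ne'
  rw [Representation.char_one,
    show ∑ x, f x * ρ.character (x * g) = ∑ x, f x * LinearMap.trace ℂ _ (ρ (x * g)) from rfl, h]
  show _ / _ * LinearMap.trace ℂ _ (ρ g) * _ = _ * LinearMap.trace ℂ _ (ρ g)
  field_simp

/-- Row orthogonality without complex conjugation. -/
theorem row_orthogonality (χ ψ : Cfsg.IrrCharacter G) [Decidable (χ = ψ)] :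
    ∑ x, (χ : G → ℂ) x⁻¹ * (ψ : G → ℂ) x = if χ = ψ then (Nat.card G : ℂ) else 0 := by
  classical
  have h := CT.irr_inner_subtype ψ χ
  rw [Cfsg.classInner] at h
  have hs : ∑ x, (χ : G → ℂ) x⁻¹ * (ψ : G → ℂ) x = ∑ x, (ψ : G → ℂ) x * conj ((χ : G → ℂ) x) :=
    Finset.sum_congr rfl fun x _ => by
      rw [CT.char_inv_eq_conj (CT.isCharacter_of_isIrr χ.2), mul_comm]
  rw [hs]
  by_cases e : χ = ψ
  · subst e
    rw [if_pos rfl]
    rw [if_pos rfl, inv_mul_eq_one₀ CT.card_ne_zero] at h
    exact h.symm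
  · rw [if_neg e]
    rw [if_neg (fun e' => e e'.symm), mul_eq_zero] at h
    exact h.resolve_left (inv_ne_zero CT.card_ne_zero)

end Complex

section Red

variable {G : Type u} [Group G] [Fintype G] {k : Type*} [Field k] (red : Cfsg.AlgInt →+* k)

/-- A character value as an algebraic integer. -/
noncomputable def valInt (χ : Cfsg.IrrCharacter G) (g : G) : Cfsg.AlgInt :=
  ⟨(χ : G → ℂ) g, CT.isIntegral_isCharacter (CT.isCharacter_of_isIrr χ.2) g⟩

/-- A reduced character value. -/
noncomputable def rv (χ : Cfsg.IrrCharacter G) (g : G) : k := red (valInt χ g)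

theorem rv_isConj (χ : Cfsg.IrrCharacter G) {a b : G} (h : IsConj a b) : rv red χ a = rv red χ b :=
  congrArg red (Subtype.ext (CT.isClassFunction_isConj (CT.isClassFunction_of_isIrr χ.2) h))

theorem rv_one (χ : Cfsg.IrrCharacter G) : rv red χ 1 = (CT.deg (χ : G → ℂ) : k) := by
  have : valInt χ 1 = (CT.deg (χ : G → ℂ) : Cfsg.AlgInt) := Subtype.ext (by
    push_cast
    exact CT.deg_eq (CT.isCharacter_of_isIrr χ.2))
  rw [rv, this, map_natCast]

theorem deg_dvd_card (χ : Cfsg.IrrCharacter G) : CT.deg (χ : G → ℂ) ∣ Nat.card G := by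
  obtain ⟨χ, n, ρ, hρ, rfl⟩ := χ
  show CT.deg ρ.character ∣ _
  rw [CT.deg_eq_finrank]
  exact CT.finrank_dvd_card ρ

variable (hG : (Nat.card G : k) ≠ 0)

include hG in
theorem rv_one_ne_zero (χ : Cfsg.IrrCharacter G) : rv red χ 1 ≠ 0 := by
  rw [rv_one]
  obtain ⟨c, hc⟩ := deg_dvd_card χ
  intro h
  apply hG
  rw [hc, Nat.cast_mul, h, zero_mul]

/-- Convolution. -/
def conv (f h : G → k) : G → k := fun g => ∑ x, f x * h (x⁻¹ * g)

theorem conv_class {f h : G → k} (hf : ∀ a b, IsConj a b → f a = f b)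
    (hh : ∀ a b, IsConj a b → h a = h b) {a b : G} (hab : IsConj a b) :
    conv f h a = conv f h b := by
  obtain ⟨c, rfl⟩ := isConj_iff.mp hab
  refine Fintype.sum_equiv (MulAut.conj c).toEquiv _ _ fun x => ?_
  have h1 : IsConj x (c * x * c⁻¹) := isConj_iff.mpr ⟨c, rfl⟩
  have h2 : IsConj (x⁻¹ * a) ((c * x * c⁻¹)⁻¹ * (c * a * c⁻¹)) :=
    isConj_iff.mpr ⟨c, by group⟩
  simp only [MulEquiv.toEquiv_eq_coe, MulEquiv.coe_toEquiv, MulAut.conj_apply]
  rw [hf _ _ h1, hh _ _ h2]

/-- The reduced central character of a class function. -/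
noncomputable def omega (ψ : Cfsg.IrrCharacter G) (f : G → k) : k :=
  (∑ x, f x * rv red ψ x) / rv red ψ 1

variable (hred : Function.Surjective red)

include hG hred in
theorem omega_spec {f : G → k} (hf : ∀ a b, IsConj a b → f a = f b) (ψ : Cfsg.IrrCharacter G)
    (g : G) : ∑ x, f x * rv red ψ (x * g) = omega red ψ f * rv red ψ g := by
  classical
  let fc : ConjClasses G → k := fun K => Quotient.liftOn K f hf
  let F : G → Cfsg.AlgInt := fun x => Function.surjInv hred (fc (ConjClasses.mk x))
  have hF : ∀ x, red (F x) = f x := fun x => Function.surjInv_eq hred _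
  have hFc : Cfsg.IsClassFunction G fun x => (F x : ℂ) := by
    intro x c
    show ((F (c * x * c⁻¹) : Cfsg.AlgInt) : ℂ) = _
    have : ConjClasses.mk (c * x * c⁻¹) = ConjClasses.mk x :=
      (ConjClasses.mk_eq_mk_iff_isConj.mpr (isConj_iff.mpr ⟨c, rfl⟩)).symm
    simp only [F, this]
  have h : (∑ x, F x * valInt ψ (x * g)) * valInt ψ 1 = (∑ x, F x * valInt ψ x) * valInt ψ g :=
    Subtype.ext (by push_cast; exact weighted_translate hFc ψ g)
  have h' := congrArg red h
  simp only [map_mul, map_sum, hF] at h'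
  rw [omega, div_mul_eq_mul_div, eq_div_iff (rv_one_ne_zero red hG ψ)]
  exact h'

include hG hred in
theorem omega_conv {f h : G → k} (hh : ∀ a b, IsConj a b → h a = h b) (ψ : Cfsg.IrrCharacter G) :
    omega red ψ (conv f h) = omega red ψ f * omega red ψ h := by
  have e : ∑ g, conv f h g * rv red ψ g = ∑ x, f x * (omega red ψ h * rv red ψ x) := by
    simp only [conv, Finset.sum_mul]
    rw [Finset.sum_comm]
    refine Finset.sum_congr rfl fun x _ => ?_
    rw [← omega_spec red hG hred hh ψ x, Finset.mul_sum]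
    refine Fintype.sum_equiv (Equiv.mulLeft x⁻¹) _ _ fun g => ?_
    rw [mul_assoc]
    congr 2
    exact rv_isConj red ψ (isConj_iff.mpr ⟨x⁻¹, by simp⟩)
  rw [omega, e]
  simp only [← mul_assoc, mul_comm (f _) (omega red ψ h)]
  simp only [mul_assoc, ← Finset.mul_sum]
  rw [mul_div_assoc, mul_comm]
  rfl

/-- The reduced central idempotent of an irreducible character. -/
noncomputable def idem (χ : Cfsg.IrrCharacter G) : G → k :=
  fun g => rv red χ 1 * rv red χ g⁻¹ / (Nat.card G : k)

theorem idem_class (χ : Cfsg.IrrCharacter G) (a b : G) (h : IsConj a b) :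
    idem red χ a = idem red χ b := by
  obtain ⟨c, rfl⟩ := isConj_iff.mp h
  simp only [idem]
  rw [rv_isConj red χ (isConj_iff.mpr ⟨c, by group⟩ : IsConj a⁻¹ (c * a * c⁻¹)⁻¹)]

include hG in
theorem omega_idem [DecidableEq (Cfsg.IrrCharacter G)] (χ ψ : Cfsg.IrrCharacter G) :
    omega red ψ (idem red χ) = if χ = ψ then 1 else 0 := by
  have h : ∑ x, valInt χ x⁻¹ * valInt ψ x = if χ = ψ then (Nat.card G : Cfsg.AlgInt) else 0 :=
    Subtype.ext (by
      push_cast
      rw [show ∑ x : G, ((valInt χ x⁻¹ : Cfsg.AlgInt) : ℂ) * ((valInt ψ x : Cfsg.AlgInt) : ℂ) = _ from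
        row_orthogonality χ ψ]
      split_ifs <;> simp)
  have h' := congrArg red h
  simp only [map_sum, map_mul, apply_ite red, map_natCast, map_zero] at h'
  have hsum : ∑ x, idem red χ x * rv red ψ x =
      rv red χ 1 / (Nat.card G : k) * ∑ x, red (valInt χ x⁻¹) * red (valInt ψ x) := by
    rw [Finset.mul_sum]
    refine Finset.sum_congr rfl fun x _ => ?_
    simp only [idem, rv]
    ring
  rw [omega, hsum, h']
  split_ifs with e
  · subst e
    have := rv_one_ne_zero red hG χ
    field_simp
  · simp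

include hG in
theorem sum_idem [DecidableEq G] (g : G) :
    ∑ χ : Cfsg.IrrCharacter G, idem red χ g = if g = 1 then 1 else 0 := by
  have h : ∑ χ : Cfsg.IrrCharacter G, valInt χ 1 * valInt χ g⁻¹ =
      if g⁻¹ = 1 then (Nat.card G : Cfsg.AlgInt) else 0 := Subtype.ext (by
    push_cast
    rw [show ∑ χ : Cfsg.IrrCharacter G, ((valInt χ 1 : Cfsg.AlgInt) : ℂ) * (valInt χ g⁻¹ : Cfsg.AlgInt) = _
      from CT.regular_eq_sum g⁻¹]
    split_ifs <;> simp)
  have h' := congrArg red h
  simp only [map_sum, map_mul, apply_ite red, map_natCast, map_zero, inv_eq_one] at h'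
  simp only [idem, rv]
  rw [← Finset.sum_div, h']
  split_ifs
  · exact div_self hG
  · simp

include hG in
/-- Expansion in the reduced central idempotents. -/
theorem eq_sum_omega {f : G → k} (hf : ∀ a b, IsConj a b → f a = f b) (g : G) :
    f g = ∑ ψ : Cfsg.IrrCharacter G, omega red ψ f * idem red ψ g := by
  classical
  have h2 : ∀ x : G, ∑ ψ : Cfsg.IrrCharacter G, rv red ψ x * rv red ψ g⁻¹ =
      if IsConj x g then (Nat.card (Subgroup.centralizer ({x} : Set G)) : k) else 0 := by
    intro x
    have h : ∑ ψ : Cfsg.IrrCharacter G, valInt ψ x * valInt ψ g⁻¹ =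
        if IsConj x g then (Nat.card (Subgroup.centralizer ({x} : Set G)) : Cfsg.AlgInt) else 0 :=
      Subtype.ext (by
        push_cast
        have := CT.column_orthogonality x g
        refine Eq.trans ?_ (this.trans ?_)
        · refine Finset.sum_congr rfl fun ψ _ => ?_
          show _ * (ψ : G → ℂ) g⁻¹ = _
          rw [CT.char_inv_eq_conj (CT.isCharacter_of_isIrr ψ.2)]
          rfl
        · split_ifs <;> simp)
    have h' := congrArg red h
    simpa only [map_sum, map_mul, apply_ite red, map_natCast, map_zero, rv] using h'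
  have h3 : ∀ ψ : Cfsg.IrrCharacter G, omega red ψ f * idem red ψ g =
      ∑ x, f x * (rv red ψ x * rv red ψ g⁻¹) / (Nat.card G : k) := by
    intro ψ
    have := rv_one_ne_zero red hG ψ
    simp only [omega, idem, Finset.sum_div, Finset.sum_mul]
    refine Finset.sum_congr rfl fun x _ => ?_
    field_simp
  simp only [h3]
  rw [Finset.sum_comm]
  have h4 : ∀ x, ∑ ψ : Cfsg.IrrCharacter G, f x * (rv red ψ x * rv red ψ g⁻¹) / (Nat.card G : k) =
      f x * (if IsConj x g then (Nat.card (Subgroup.centralizer ({x} : Set G)) : k) else 0) / (Nat.card G : k) := by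
    intro x
    rw [← h2 x, Finset.mul_sum, Finset.sum_div]
  simp only [h4]
  have h5 : ∀ x, f x * (if IsConj x g then (Nat.card (Subgroup.centralizer ({x} : Set G)) : k) else 0) /
      (Nat.card G : k) = if IsConj g x then
        f g * (Nat.card (Subgroup.centralizer ({g} : Set G)) : k) / (Nat.card G : k) else 0 := by
    intro x
    by_cases hx : IsConj g x
    · obtain ⟨c, rfl⟩ := isConj_iff.mp hx
      rw [if_pos hx.symm, if_pos hx, hf _ _ hx]
      congr 3
      have e1 := CT.card_conj_class_mul_centralizer g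
      have e2 := CT.card_conj_class_mul_centralizer (c * g * c⁻¹)
      have e3 : Nat.card {y : G // IsConj g y} = Nat.card {y : G // IsConj (c * g * c⁻¹) y} :=
        Nat.card_congr (Equiv.subtypeEquivRight fun y => ⟨fun a => hx.symm.trans a, fun a => hx.trans a⟩)
      rw [← e3, ← e1] at e2
      have : 0 < Nat.card {y : G // IsConj g y} := by
        have : Nonempty {y : G // IsConj g y} := ⟨⟨g, IsConj.refl g⟩⟩
        exact Nat.card_pos
      exact Nat.eq_of_mul_eq_mul_left this e2
    · rw [if_neg hx, if_neg (fun a => hx a.symm), mul_zero, zero_div]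
  simp only [h5]
  rw [← Finset.sum_filter, Finset.sum_const, nsmul_eq_mul]
  have e : ((Finset.univ.filter fun x => IsConj g x).card : k) *
      (Nat.card (Subgroup.centralizer ({g} : Set G)) : k) = (Nat.card G : k) := by
    rw [← Nat.cast_mul, ← CT.card_conj_class_mul_centralizer g]
    congr 2
    rw [Nat.card_eq_fintype_card, Fintype.card_subtype]
  rw [mul_div_assoc', ← mul_assoc, mul_comm _ (f g), mul_assoc, e, mul_div_assoc, div_self hG, mul_one]

end Red

end Cfsg.Agent.Glauberman
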